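import Cfsg.Agent.Lib.PGroup.OrthTwoIndex.Family

/-!
A subgroup of intermediate order has conjugates covering many points, for both types.
-/

set_option autoImplicit false
set_option linter.unusedSectionVars false

namespace CfsgLib.PGroup.OrthTwoIndex

open scoped Matrix
open Matrix Cfsg.Geo CfsgLib.Perm.Trans CfsgLib.Perm.Trans.Quad CfsgLib.PGroup.OrthIndex
open scoped _root_.Classical

variable {ι : Type} [Fintype ι] [DecidableEq ι] {F : Type*} [Field F] [Fintype F] [Two F]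
variable {Q : (ι → F) → F}

theorem large_case {K d l M c : ℕ} (hK : 16 ≤ K) (hLD : (l + 2) * d = K * K) (h1 : K * K ≤ 8 * d)
    (hd : 0 < d) (hM : M * d ≤ 2 * (K * K)) (hc : K * K ≤ 2 * c + K + 2) (hcov : c ≤ M * (l + 1)) : False := by
  have hl6 : l + 2 ≤ 8 := by
    by_contra h
    have h3 : 9 * d ≤ (l + 2) * d := Nat.mul_le_mul_right _ (by omega)
    omega
  have h3 : (l + 1) * (l + 2) ≤ 7 * 8 := Nat.mul_le_mul (by omega) (by omega)
  have h4 : c * (K * K) ≤ 56 * (M * d) := by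
    rw [← hLD]
    calc c * ((l + 2) * d) ≤ M * (l + 1) * ((l + 2) * d) := Nat.mul_le_mul_right _ hcov
      _ = (l + 1) * (l + 2) * (M * d) := by ring
      _ ≤ _ := Nat.mul_le_mul_right _ h3
  have h5 : 16 * K ≤ K * K := Nat.mul_le_mul_right _ hK
  have h6 : c * (K * K) ≤ 112 * (K * K) := by omega
  have hc' := Nat.le_of_mul_le_mul_right h6 (by nlinarith)
  nlinarith

theorem eight_case {d l M c : ℕ} (hLD : (l + 2) * d = 64) (h1 : 12 ≤ d) (hM : M * d ≤ 120)
    (hc : 27 ≤ c) (hcov : c ≤ M * (l + 1)) : False := by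
  have hl : l ≤ 3 := by
    by_contra h
    have h3 : 6 * d ≤ (l + 2) * d := Nat.mul_le_mul_right _ (by omega)
    omega
  have h2 : c * d ≤ (l + 1) * (M * d) := by
    calc c * d ≤ M * (l + 1) * d := Nat.mul_le_mul_right _ hcov
      _ = _ := by ring
  have h3 : 27 * d ≤ c * d := Nat.mul_le_mul_right _ hc
  interval_cases l <;> omega

theorem card_of_fiveleven {d e : ℕ} (h : d * e = 64) (h1 : 5 ≤ d) (h2 : d ≤ 11) : d = 8 := by
  interval_cases d <;> omega

variable (hQ : IsNondegenerateQuadraticForm Q) (Φ : Frame Q)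
include hQ
variable {K : ℕ} {σ : ℤ} (hW : Space Q (wset hQ Φ) K σ)
include hW

/-- The class covered by the orthogonals, with a lower bound for its size. -/
theorem cover_low {D : Finset (ι → F)} (hd : Data hQ Φ (K := K) D) :
    ∃ l c : ℕ, (l + 2) * D.card = K * K ∧ K * K ≤ 2 * c + K + 2 ∧ (K = 8 → 27 ≤ c) ∧
      c ≤ (fam hQ Φ D).card * (l + 1) := by
  obtain ⟨l, hl, ε, hc⟩ := cover hQ Φ hW hd
  refine ⟨l, _, hl, ?_, ?_, hc⟩
  · have h0 := card_cls_zero hQ Φ hW
    have h1 := card_cls_one hQ Φ hW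
    have : (K : ℤ) * K ≤ 2 * ((cls hQ Φ ε).card : ℤ) + K + 2 := by
      rcases hW.sign with rfl | rfl <;> rcases Two.out ε with rfl | rfl <;> linarith
    exact_mod_cast this
  · intro hK
    have h0 := card_cls_zero hQ Φ hW
    have h1 := card_cls_one hQ Φ hW
    rw [hK] at h0 h1
    push_cast at h0 h1
    have : (27 : ℤ) ≤ ((cls hQ Φ ε).card : ℤ) := by
      rcases hW.sign with rfl | rfl <;> rcases Two.out ε with rfl | rfl <;> linarith
    exact_mod_cast this

theorem big_case {D : Finset (ι → F)} (hd : Data hQ Φ (K := K) D) (h1 : K * K ≤ 8 * D.card)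
    (h8 : K = 8 → 12 ≤ D.card) (hK : K = 8 ∨ 16 ≤ K)
    (hlt : (fam hQ Φ D).card * D.card + K < 2 * (K * K)) : False := by
  obtain ⟨l, c, hl, hc, hc8, hcov⟩ := cover_low hQ Φ hW hd
  rcases hK with hK | hK
  · have h64 : K * K = 64 := by rw [hK]
    exact eight_case (d := D.card) (l := l) (M := (fam hQ Φ D).card) (c := c) (by omega) (h8 hK)
      (by omega) (hc8 hK) hcov
  · exact large_case hK hl h1 (Finset.card_pos.2 ⟨0, hd.zero⟩) (by omega) hc hcov

/-- Plus type. -/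
theorem family_bound (hσ : σ = 1) (D : Finset (ι → F)) (hd : Data hQ Φ (K := K) D) (hK : K = 8 ∨ 16 ≤ K) :
    2 * (K * K) ≤ (fam hQ Φ D).card * D.card + K := by
  by_contra hlt
  rw [not_le] at hlt
  have h8 := hW.big
  have hsz := card_split hQ Φ hd
  obtain ⟨t, ht⟩ : ∃ t, (cls hQ Φ (1 : F)).card = t := ⟨_, rfl⟩
  obtain ⟨s, hs⟩ : ∃ s, (cls hQ Φ (0 : F)).card = s := ⟨_, rfl⟩
  have ht' : 2 * t + K = K * K := by
    have h := card_cls_one hQ Φ hW
    rw [ht, hσ] at h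
    have : 2 * (t : ℤ) + K = K * K := by linarith
    exact_mod_cast this
  have hs' : 2 * s + 2 = K * K + K := by
    have h := card_cls_zero hQ Φ hW
    rw [hs, hσ] at h
    have : 2 * (s : ℤ) + 2 = K * K + K := by linarith
    exact_mod_cast this
  obtain ⟨M, hM⟩ : ∃ M, (fam hQ Φ D).card = M := ⟨_, rfl⟩
  have hM1 : 1 ≤ M := hM ▸ Finset.card_pos.2 ⟨D, self_mem_fam hQ Φ D⟩
  rw [hM] at hlt
  rcases trichotomy hQ (D := D) with ⟨a, ha, b, hb, hQa, hab⟩ | ⟨a, ha, hQa, horth⟩ | hts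
  · have ha1 : a ∈ cls hQ Φ 1 := (mem_cls hQ Φ).2 ⟨hd.sub ha, not_eq_zero_of_Q hQ hQa, hQa⟩
    obtain ⟨hb1, hfour⟩ := bound_nonorth hQ Φ hW hd ha hb hQa hab
    have hct := class_count hQ Φ hW D ha1
    rw [hM, ht] at hct
    obtain ⟨μ, hμ⟩ : ∃ μ, mult hQ Φ D a = μ := ⟨_, rfl⟩
    rw [hμ] at hb1 hct
    have hμ4 : μ ≤ 4 := by
      by_contra h
      have : 5 * t ≤ t * μ := by rw [mul_comm t]; exact Nat.mul_le_mul_right _ (by omega)
      nlinarith
    by_cases hσ0 : ((cls hQ Φ 0).filter fun v => v ∈ D).card = 0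
    · have h1 := Nat.mul_le_mul hμ4 (hfour hσ0)
      nlinarith
    · obtain ⟨z, hz⟩ := Finset.card_pos.1 (Nat.pos_of_ne_zero hσ0)
      obtain ⟨hzc, hzD⟩ := Finset.mem_filter.1 hz
      have hcs := class_count hQ Φ hW D hzc
      rw [hM, hs] at hcs
      have hμs : 1 ≤ mult hQ Φ D z := mult_pos hQ Φ hzD
      have hμ2 : μ ≤ 2 := by
        by_contra h
        have h1 : s ≤ s * mult hQ Φ D z := Nat.le_mul_of_pos_right _ hμs
        have h2 : 3 * t ≤ t * μ := by rw [mul_comm t]; exact Nat.mul_le_mul_right _ (by omega)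
        nlinarith
      have h1 := Nat.mul_le_mul_right D.card hμ2
      have h3 : K * K ≤ 4 * D.card + 2 * K := by omega
      refine big_case hQ Φ hW hd (by nlinarith) (fun hK8 => ?_) hK (by rw [hM]; omega)
      subst hK8; omega
  · have ha1 : a ∈ cls hQ Φ 1 := (mem_cls hQ Φ).2 ⟨hd.sub ha, not_eq_zero_of_Q hQ hQa, hQa⟩
    obtain ⟨hb1, z, hzD, hzc⟩ := bound_orth hQ Φ hW hd ha hQa horth
    have hct := class_count hQ Φ hW D ha1
    have hcs := class_count hQ Φ hW D hzc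
    rw [hM, ht] at hct
    rw [hM, hs] at hcs
    obtain ⟨μ, hμ⟩ : ∃ μ, mult hQ Φ D a = μ := ⟨_, rfl⟩
    obtain ⟨μ', hμ'⟩ : ∃ μ, mult hQ Φ D z = μ := ⟨_, rfl⟩
    have hμs : 1 ≤ μ' := hμ' ▸ mult_pos hQ Φ hzD
    rw [hμ] at hb1 hct
    rw [hμ'] at hcs
    have hμ2 : μ ≤ 2 := by
      by_contra h
      have h1 : s ≤ s * μ' := Nat.le_mul_of_pos_right _ hμs
      have h2 : 3 * t ≤ t * μ := by rw [mul_comm t]; exact Nat.mul_le_mul_right _ (by omega)
      nlinarith
    have h1 := Nat.mul_le_mul_right D.card hμ2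
    by_cases hbig : K = 8 → 12 ≤ D.card
    · exact big_case hQ Φ hW hd (by omega) hbig hK (by rw [hM]; omega)
    obtain ⟨hK8, hD12⟩ : K = 8 ∧ D.card < 12 := by simpa using hbig
    subst hK8
    obtain ⟨l, -, hl, -⟩ := cover_low hQ Φ hW hd
    have hD8 : D.card = 8 := card_of_fiveleven (e := l + 2) (by rw [mul_comm]; exact hl) (by omega) (by omega)
    rw [hD8] at hsz hb1 hlt
    have hμe : μ = 2 := by omega
    subst hμe
    obtain ⟨p, hp⟩ : ∃ p, ((cls hQ Φ 0).filter fun v => v ∈ D).card = p := ⟨_, rfl⟩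
    obtain ⟨n, hn⟩ : ∃ n, ((cls hQ Φ 1).filter fun v => v ∈ D).card = n := ⟨_, rfl⟩
    rw [hp] at hcs hsz
    rw [hn] at hct hsz
    have e1 : M * (p + n) = s * μ' + t * 2 := by rw [mul_add, hcs, hct]
    rw [show p + n = 7 by omega] at e1
    have hμe' : μ' = 1 := by
      by_contra hne'
      have : 2 * s ≤ s * μ' := by rw [mul_comm s]; exact Nat.mul_le_mul_right _ (by omega)
      omega
    subst hμe'
    have hM13 : M = 13 := by omega
    subst hM13
    omega
  · obtain ⟨hDK, hν, a, ha, hac, hb1, hb8, -⟩ := bound_ts hQ Φ hW hd hts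
    have hct := class_count hQ Φ hW D hac
    rw [hM, hs] at hct
    obtain ⟨μ, hμ⟩ : ∃ μ, mult hQ Φ D a = μ := ⟨_, rfl⟩
    rw [hμ] at hb1 hct hb8
    rw [hν, add_zero] at hsz
    have hμ3 : μ ≤ 3 := by
      by_contra h
      have h2 : 4 * s ≤ s * μ := by rw [mul_comm s]; exact Nat.mul_le_mul_right _ (by omega)
      nlinarith
    have h1 := Nat.mul_le_mul hμ3 hDK
    have hK8 : K = 8 := by
      rcases hK with h | h
      · exact h
      · nlinarith
    subst hK8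
    obtain ⟨l, -, hl, -⟩ := cover_low hQ Φ hW hd
    have hD5 : 5 ≤ D.card := by
      by_contra hD5
      have := Nat.mul_le_mul hμ3 (Nat.lt_succ_iff.1 (by omega : D.card < 5))
      omega
    have hD8 : D.card = 8 := card_of_fiveleven (e := l + 2) (by rw [mul_comm]; exact hl) hD5 (by omega)
    have h24 := hb8 rfl hD8 hσ
    rw [hD8] at h24 hlt hsz
    have hμe : μ = 3 := by omega
    subst hμe
    rw [show ((cls hQ Φ 0).filter fun v => v ∈ D).card = 7 by omega] at hct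
    omega

/-- Minus type. -/
theorem family_bound_minus (hσ : σ = -1) (D : Finset (ι → F)) (hd : Data hQ Φ (K := K) D)
    (hK : K = 8 ∨ 16 ≤ K) : 2 * (K * K) ≤ (fam hQ Φ D).card * D.card + K + 1 := by
  by_contra hlt
  rw [not_le] at hlt
  have h8 := hW.big
  have hsz := card_split hQ Φ hd
  obtain ⟨t, ht⟩ : ∃ t, (cls hQ Φ (1 : F)).card = t := ⟨_, rfl⟩
  obtain ⟨s, hs⟩ : ∃ s, (cls hQ Φ (0 : F)).card = s := ⟨_, rfl⟩
  have ht' : 2 * t = K * K + K := by
    have h := card_cls_one hQ Φ hW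
    rw [ht, hσ] at h
    have : 2 * (t : ℤ) = K * K + K := by linarith
    exact_mod_cast this
  have hs' : 2 * s + 2 + K = K * K := by
    have h := card_cls_zero hQ Φ hW
    rw [hs, hσ] at h
    have : 2 * (s : ℤ) + 2 + K = K * K := by linarith
    exact_mod_cast this
  have h5K : 8 * K ≤ K * K := Nat.mul_le_mul_right _ h8
  obtain ⟨M, hM⟩ : ∃ M, (fam hQ Φ D).card = M := ⟨_, rfl⟩
  have hM1 : 1 ≤ M := hM ▸ Finset.card_pos.2 ⟨D, self_mem_fam hQ Φ D⟩
  rw [hM] at hlt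
  obtain ⟨p, hp⟩ : ∃ p, ((cls hQ Φ 0).filter fun v => v ∈ D).card = p := ⟨_, rfl⟩
  obtain ⟨n, hn⟩ : ∃ n, ((cls hQ Φ 1).filter fun v => v ∈ D).card = n := ⟨_, rfl⟩
  rw [hp, hn] at hsz
  have hMD : M * D.card = M * p + M * n + M := by rw [← hsz]; ring
  rcases trichotomy hQ (D := D) with ⟨a, ha, b, hb, hQa, hab⟩ | ⟨a, ha, hQa, horth⟩ | hts
  · have ha1 : a ∈ cls hQ Φ 1 := (mem_cls hQ Φ).2 ⟨hd.sub ha, not_eq_zero_of_Q hQ hQa, hQa⟩
    obtain ⟨hb1, hfour⟩ := bound_nonorth hQ Φ hW hd ha hb hQa hab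
    have hct := class_count hQ Φ hW D ha1
    rw [hM, ht, hn] at hct
    obtain ⟨μ, hμ⟩ : ∃ μ, mult hQ Φ D a = μ := ⟨_, rfl⟩
    rw [hμ] at hb1 hct
    have hμ3 : μ ≤ 3 := by
      by_contra h
      have : 4 * t ≤ t * μ := by rw [mul_comm t]; exact Nat.mul_le_mul_right _ (by omega)
      omega
    by_cases hσ0 : p = 0
    · have h1 := Nat.mul_le_mul hμ3 (hfour (hp.trans hσ0))
      omega
    · obtain ⟨z, hz⟩ := Finset.card_pos.1 (Nat.pos_of_ne_zero (hp ▸ hσ0))
      obtain ⟨hzc, hzD⟩ := Finset.mem_filter.1 hz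
      have hcs := class_count hQ Φ hW D hzc
      rw [hM, hs, hp] at hcs
      have hμs : 1 ≤ mult hQ Φ D z := mult_pos hQ Φ hzD
      have hμ2 : μ ≤ 2 := by
        by_contra h
        have h1 : s ≤ s * mult hQ Φ D z := Nat.le_mul_of_pos_right _ hμs
        have h2 : 3 * t ≤ t * μ := by rw [mul_comm t]; exact Nat.mul_le_mul_right _ (by omega)
        omega
      have h1 := Nat.mul_le_mul_right D.card hμ2
      refine big_case hQ Φ hW hd (by omega) (fun hK8 => ?_) hK (by rw [hM]; omega)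
      subst hK8; omega
  · have ha1 : a ∈ cls hQ Φ 1 := (mem_cls hQ Φ).2 ⟨hd.sub ha, not_eq_zero_of_Q hQ hQa, hQa⟩
    obtain ⟨hb1, z, hzD, hzc⟩ := bound_orth hQ Φ hW hd ha hQa horth
    have hct := class_count hQ Φ hW D ha1
    have hcs := class_count hQ Φ hW D hzc
    rw [hM, ht, hn] at hct
    rw [hM, hs, hp] at hcs
    obtain ⟨μ, hμ⟩ : ∃ μ, mult hQ Φ D a = μ := ⟨_, rfl⟩
    obtain ⟨μ', hμ'⟩ : ∃ μ, mult hQ Φ D z = μ := ⟨_, rfl⟩
    have hμs : 1 ≤ μ' := hμ' ▸ mult_pos hQ Φ hzD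
    rw [hμ] at hb1 hct
    rw [hμ'] at hcs
    have hμ2 : μ ≤ 2 := by
      by_contra h
      have h1 : s ≤ s * μ' := Nat.le_mul_of_pos_right _ hμs
      have h2 : 3 * t ≤ t * μ := by rw [mul_comm t]; exact Nat.mul_le_mul_right _ (by omega)
      omega
    have h1 := Nat.mul_le_mul_right D.card hμ2
    by_cases hbig : K = 8 → 12 ≤ D.card
    · exact big_case hQ Φ hW hd (by omega) hbig hK (by rw [hM]; omega)
    obtain ⟨hK8, hD12⟩ : K = 8 ∧ D.card < 12 := by simpa using hbig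
    subst hK8
    obtain ⟨l, -, hl, -⟩ := cover_low hQ Φ hW hd
    have hD8 : D.card = 8 := card_of_fiveleven (e := l + 2) (by rw [mul_comm]; exact hl) (by omega) (by omega)
    rw [hD8] at hsz hb1 hlt hMD
    have hμe : μ = 2 := by omega
    subst hμe
    have e1 : M * (p + n) = s * μ' + t * 2 := by rw [mul_add, hcs, hct]
    rw [show p + n = 7 by omega] at e1
    have hμe' : μ' = 1 := by
      by_contra hne'
      have : 2 * s ≤ s * μ' := by rw [mul_comm s]; exact Nat.mul_le_mul_right _ (by omega)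
      omega
    subst hμe'
    omega
  · obtain ⟨-, hν, a, ha, hac, hb1, -, hlt'⟩ := bound_ts hQ Φ hW hd hts
    have hDK := hlt' hσ
    have hct := class_count hQ Φ hW D hac
    rw [hM, hs, hp] at hct
    rw [hn] at hν
    subst hν
    obtain ⟨μ, hμ⟩ : ∃ μ, mult hQ Φ D a = μ := ⟨_, rfl⟩
    rw [hμ] at hb1 hct
    rw [mul_zero, add_zero] at hMD
    have hμ4 : μ ≤ 4 := by
      by_contra h
      have h2 : 5 * s ≤ s * μ := by rw [mul_comm s]; exact Nat.mul_le_mul_right _ (by omega)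
      omega
    have h1 := Nat.mul_le_mul_right D.card hμ4
    have hK8 : K = 8 := by
      rcases hK with h | h
      · exact h
      · have := Nat.mul_le_mul_right K h
        omega
    subst hK8
    obtain ⟨l, -, hl, -⟩ := cover_low hQ Φ hW hd
    have hD4 : D.card = 4 := by
      have h3 := hd.three
      obtain ⟨d, hd'⟩ : ∃ d, D.card = d := ⟨_, rfl⟩
      rw [hd'] at hl hb1 hDK h1 h3 ⊢
      interval_cases d <;> omega
    rw [hD4] at hb1 hsz hlt hMD
    have hμe : μ = 4 := by omega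
    subst hμe
    rw [show p = 3 by omega] at hct
    omega

end CfsgLib.PGroup.OrthTwoIndex
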