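import Cfsg.Agent.Lib.PGroup.OrthTwoIndex.Forms

/-!
The conjugates of a subgroup of the orthogonal of a hyperbolic pair cover many points.
-/

set_option autoImplicit false
set_option linter.unusedSectionVars false

namespace CfsgLib.PGroup.OrthTwoIndex

open scoped Matrix
open Matrix Cfsg.Geo CfsgLib.Perm.Trans CfsgLib.Perm.Trans.Quad CfsgLib.PGroup.OrthIndex
open scoped _root_.Classical

variable {ι : Type} [Fintype ι] [DecidableEq ι] {F : Type*} [Field F] [Fintype F] [Two F]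
variable {Q : (ι → F) → F}

local notation "pol" => QuadraticMap.polar

variable (hQ : IsNondegenerateQuadraticForm Q) (Φ : Frame Q)
include hQ

/-- The orthogonal of the pair as a finite set. -/
noncomputable def wset : Finset (ι → F) := Finset.univ.filter fun v => v ∈ Φ.W hQ

theorem mem_wset {v : ι → F} : v ∈ wset hQ Φ ↔ v ∈ Φ.W hQ := by simp [wset]

theorem space_W (hP : Φ.P = ⊤) {K : ℕ} {σ : ℤ} (hK : 8 ≤ K) (hV : Space Q Finset.univ (2 * K) σ) :
    Space Q (wset hQ Φ) K σ := by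
  have key : ∀ h : (ι → F) → ℤ,
      ∑ v : ι → F, h v = ∑ w ∈ wset hQ Φ, ∑ a : F, ∑ b : F, h (w + a • Φ.e + b • Φ.f) := by
    intro h
    rw [Finset.sum_congr rfl (fun w _ => (Fintype.sum_prod_type fun p : F × F => h (w + p.1 • Φ.e + p.2 • Φ.f)).symm)]
    rw [← Finset.sum_product']
    refine Finset.sum_nbij' (fun v => (v - pol Q v Φ.f • Φ.e - pol Q v Φ.e • Φ.f, (pol Q v Φ.f, pol Q v Φ.e)))
      (fun p => p.1 + p.2.1 • Φ.e + p.2.2 • Φ.f) (fun v _ => Finset.mem_product.2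
        ⟨(mem_wset hQ Φ).2 (Φ.rest_mem hQ hP v), Finset.mem_univ _⟩) (fun p _ => Finset.mem_univ _)
      (fun v _ => ?_) (fun p hp => ?_) (fun v _ => ?_)
    · show v - pol Q v Φ.f • Φ.e - pol Q v Φ.e • Φ.f + pol Q v Φ.f • Φ.e + pol Q v Φ.e • Φ.f = v
      abel
    · have hw := (mem_wset hQ Φ).1 (Finset.mem_product.1 hp).1
      have e1 : pol Q (p.1 + p.2.1 • Φ.e + p.2.2 • Φ.f) Φ.f = p.2.1 := by
        rw [padd_left hQ, padd_left hQ, psmul_left hQ, psmul_left hQ, Φ.pol_f hQ hw, Φ.hef,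
          pol_self_singular hQ Φ.hQf]
        ring
      have e2 : pol Q (p.1 + p.2.1 • Φ.e + p.2.2 • Φ.f) Φ.e = p.2.2 := by
        rw [padd_left hQ, padd_left hQ, psmul_left hQ, psmul_left hQ, Φ.pol_e' hQ hw, Φ.hfe hQ,
          pol_self_singular hQ Φ.hQe]
        ring
      simp only [e1, e2]
      refine Prod.ext ?_ rfl
      show p.1 + p.2.1 • Φ.e + p.2.2 • Φ.f - p.2.1 • Φ.e - p.2.2 • Φ.f = p.1
      abel
    · congr 1
      show v = v - pol Q v Φ.f • Φ.e - pol Q v Φ.e • Φ.f + pol Q v Φ.f • Φ.e + pol Q v Φ.e • Φ.f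
      abel
  have hu : (Finset.univ : Finset F) = {0, 1} := Finset.ext fun c => by simpa using Two.out c
  have hq : ∀ w ∈ wset hQ Φ, ∀ a b : F, Q (w + a • Φ.e + b • Φ.f) = Q w + a * b := by
    intro w hw a b
    have hw := (mem_wset hQ Φ).1 hw
    rw [qadd hQ, qadd hQ, qsmul hQ, qsmul hQ, Φ.hQe, Φ.hQf, padd_left hQ, psmul_right hQ, psmul_right hQ,
      psmul_left hQ, psmul_right hQ, Φ.hef, Φ.pol_e' hQ hw, Φ.pol_f hQ hw]
    ring
  refine ⟨(mem_wset hQ Φ).2 (Φ.W hQ).zero_mem, fun u hu' w hw => ?_, fun c hc hc0 => ?_, ?_, ?_, hV.sign, hK⟩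
  · rw [mem_wset] at hu' hw ⊢
    exact (Φ.W hQ).add_mem hu' hw
  · obtain ⟨x, hx, hne⟩ := ((Φ.W_nd hQ) c ((mem_wset hQ Φ).1 hc) hc0).1
    exact ⟨x, (mem_wset hQ Φ).2 hx, eq_one_of_ne_zero hne⟩
  · have h1 := key fun _ => 1
    simp only [Finset.sum_const, Finset.card_univ, nsmul_eq_mul, mul_one] at h1
    have h2 : Fintype.card F = 2 := by rw [← Finset.card_univ, hu, Finset.card_pair zero_ne_one]
    rw [← Finset.card_univ, hV.card, h2] at h1
    push_cast at h1
    have : ((wset hQ Φ).card : ℤ) = ((K * K : ℕ) : ℤ) := by push_cast; linarith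
    exact_mod_cast this
  · have h1 := key fun v => chi (Q v)
    rw [hV.gauss, Finset.sum_congr rfl fun w hw => Finset.sum_congr rfl fun a _ =>
      Finset.sum_congr rfl fun b _ => by rw [hq w hw, chi_add]] at h1
    simp only [hu, Finset.sum_pair zero_ne_one, mul_zero, zero_mul, mul_one, chi_zero, chi_one,
      Finset.sum_add_distrib, Finset.sum_neg_distrib, mul_neg] at h1
    push_cast at h1
    linarith

/-- The elements fixing the pair that are built from the orthogonal of the pair. -/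
noncomputable abbrev levi : Subgroup ↥(eGroup Q) := inner hQ (Φ.W hQ)

theorem levi_fix {g : ↥(eGroup Q)} (hg : g ∈ levi hQ Φ) : act g Φ.e = Φ.e :=
  inner_fix hQ hg fun _ hy => Φ.pol_e hQ hy

variable {K : ℕ} {σ : ℤ} (hW : Space Q (wset hQ Φ) K σ)
include hW

theorem levi_trans {a a' : ι → F} (ha : a ∈ wset hQ Φ) (ha' : a' ∈ wset hQ Φ) (ha0 : a ≠ 0)
    (ha0' : a' ≠ 0) (h : Q a = Q a') : ∃ g ∈ levi hQ Φ, act g a = a' := by
  rcases eq_or_ne a a' with rfl | hne
  · exact ⟨1, one_mem _, act_one a⟩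
  obtain ⟨s, hs, -, hs0, hsa, hsa'⟩ := hW.exists_sing hQ ha ha' ha0 ha0' hne 1 1 ∅ (by simp)
  obtain ⟨g, hg, -, hga⟩ := step hQ (P := Φ.W hQ) (u := 0) ((mem_wset hQ Φ).1 ha) ((mem_wset hQ Φ).1 ha')
    ((mem_wset hQ Φ).1 hs) hs0 h (by rw [pzero_left hQ, pzero_left hQ]) (pzero_right hQ s)
    (by rw [pcomm a, hsa, pcomm a', hsa']) (by rw [pcomm a, hsa]; exact one_ne_zero)
  exact ⟨g, hg, hga⟩

omit hW in
/-- The reflection of a vector of value one, as a map. -/
def refl (w x : ι → F) : ι → F := x + pol Q x w • w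

omit hW in
theorem refl_refl {w : ι → F} (hw : Q w = 1) (x : ι → F) : refl (Q := Q) w (refl (Q := Q) w x) = x := by
  simp only [refl, padd_left hQ, psmul_left hQ, pself hQ, hw, two_eq_zero]
  rw [zero_mul, mul_zero, add_zero, vadd_cancel]

omit hW in
theorem refl_pair_orth {w w' : ι → F} (hw : w ∈ wset hQ Φ) (hw' : w' ∈ wset hQ Φ) (h1 : Q w = 1)
    (h1' : Q w' = 1) (hp : pol Q w w' = 0) :
    ∃ g ∈ levi hQ Φ, ∀ x, act g x = refl (Q := Q) w (refl (Q := Q) w' x) := by
  have hs : Q (w + w') = 0 := by rw [qadd hQ, h1, h1', hp, add_zero, fadd_self]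
  have hsw : pol Q (w + w') w = 0 := by
    rw [padd_left hQ, pself hQ, h1, pcomm w', hp, two_eq_zero, zero_mul, add_zero]
  refine ⟨el hQ (w + w') w, el_mem_inner hQ ((Φ.W hQ).add_mem ((mem_wset hQ Φ).1 hw) ((mem_wset hQ Φ).1 hw'))
    ((mem_wset hQ Φ).1 hw) hs hsw, fun x => ?_⟩
  simp only [refl, act_el hQ hs hsw, padd_left hQ, padd_right hQ, psmul_left hQ, h1, pcomm w' w, hp]
  have h2 := two_eq_zero (F := F)
  match_scalars <;> grind

theorem refl_pair {w w' : ι → F} (hw : w ∈ wset hQ Φ) (hw' : w' ∈ wset hQ Φ) (h1 : Q w = 1)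
    (h1' : Q w' = 1) :
    ∃ g ∈ levi hQ Φ, ∀ x, act g x = refl (Q := Q) w (refl (Q := Q) w' x) := by
  rcases Two.out (pol Q w w') with hp | hp
  · exact refl_pair_orth hQ Φ hw hw' h1 h1' hp
  have hw0 : w ≠ 0 := fun h => by rw [h, qzero hQ] at h1; exact zero_ne_one h1
  have hw0' : w' ≠ 0 := fun h => by rw [h, qzero hQ] at h1'; exact zero_ne_one h1'
  have hne : w ≠ w' := fun h => by
    rw [h, pself hQ, two_eq_zero, zero_mul] at hp; exact zero_ne_one hp
  have hc := hW.count2 hQ hw hw' hw0 hw0' hne 1 0 0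
  rw [qadd hQ, h1, h1', hp, fadd_self, zero_add, chi_zero, chi_one] at hc
  have hK : (8 : ℤ) ≤ K := by exact_mod_cast hW.big
  obtain ⟨c, hc'⟩ : ((wset hQ Φ).filter fun v => Q v = 1 ∧ pol Q v w = 0 ∧ pol Q v w' = 0).Nonempty := by
    refine Finset.card_pos.1 ?_
    suffices (0 : ℤ) < (((wset hQ Φ).filter fun v => Q v = 1 ∧ pol Q v w = 0 ∧ pol Q v w' = 0).card : ℤ) by
      exact_mod_cast this
    rcases hW.sign with rfl | rfl <;> nlinarith
  obtain ⟨hcW, hcQ, hcw, hcw'⟩ := Finset.mem_filter.1 hc'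
  obtain ⟨g, hg, hgx⟩ := refl_pair_orth hQ Φ hw hcW h1 hcQ (by rw [pcomm, hcw])
  obtain ⟨g', hg', hgx'⟩ := refl_pair_orth hQ Φ hcW hw' hcQ h1' hcw'
  exact ⟨g * g', mul_mem hg hg', fun x => by rw [act_mul, hgx, hgx', refl_refl hQ hcQ]⟩

/-! ### A subgroup and its conjugates -/

/-- The conjugates. -/
noncomputable def fam (D : Finset (ι → F)) : Finset (Finset (ι → F)) :=
  (Set.toFinite {U | ∃ g ∈ levi hQ Φ, U = D.image (act g)}).toFinset

omit hW in
theorem mem_fam {D U : Finset (ι → F)} : U ∈ fam hQ Φ D ↔ ∃ g ∈ levi hQ Φ, U = D.image (act g) := by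
  simp [fam]

omit hW in
/-- The number of conjugates through a vector. -/
noncomputable def mult (D : Finset (ι → F)) (a : ι → F) : ℕ :=
  ((fam hQ Φ D).filter fun U => a ∈ U).card

omit hW in
theorem mult_le {D : Finset (ι → F)} {g : ↥(eGroup Q)} (hg : g ∈ levi hQ Φ) (a : ι → F) :
    mult hQ Φ D a ≤ mult hQ Φ D (act g a) := by
  refine Finset.card_le_card_of_injOn (fun U => U.image (act g)) (fun U hU => ?_)
    (Finset.image_injective (act_injective g)).injOn
  obtain ⟨hU, haU⟩ := Finset.mem_filter.1 hU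
  obtain ⟨g', hg', rfl⟩ := (mem_fam hQ Φ).1 hU
  refine Finset.mem_filter.2 ⟨(mem_fam hQ Φ).2 ⟨g * g', mul_mem hg hg', ?_⟩,
    Finset.mem_image_of_mem _ haU⟩
  show (D.image (act g')).image (act g) = _
  rw [Finset.image_image]
  exact Finset.image_congr fun x _ => (act_mul g g' x).symm

omit hW in
/-- The nonzero vectors of a given value. -/
noncomputable def cls (ε : F) : Finset (ι → F) := (wset hQ Φ).filter fun v => v ≠ 0 ∧ Q v = ε

omit hW in
theorem mem_cls {ε : F} {v : ι → F} : v ∈ cls hQ Φ ε ↔ v ∈ wset hQ Φ ∧ v ≠ 0 ∧ Q v = ε := by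
  simp [cls]

theorem card_cls_one : 2 * ((cls hQ Φ 1).card : ℤ) = (K : ℤ) * K - σ * K := by
  have h := hW.count0 hQ (1 : F)
  have e : cls hQ Φ 1 = (wset hQ Φ).filter fun v => Q v = 1 := by
    ext v
    simp only [mem_cls, Finset.mem_filter]
    exact ⟨fun h => ⟨h.1, h.2.2⟩, fun h => ⟨h.1, fun h0 => by rw [h0, qzero hQ] at h; exact zero_ne_one h.2, h.2⟩⟩
  rw [e, h, chi_one]; ring

theorem card_cls_zero : 2 * ((cls hQ Φ 0).card : ℤ) + 2 = (K : ℤ) * K + σ * K := by
  have h := hW.count0 hQ (0 : F)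
  have e : insert 0 (cls hQ Φ 0) = (wset hQ Φ).filter fun v => Q v = 0 := by
    ext v
    simp only [Finset.mem_insert, mem_cls, Finset.mem_filter]
    constructor
    · rintro (rfl | h)
      exacts [⟨hW.zero, qzero hQ⟩, ⟨h.1, h.2.2⟩]
    · rintro ⟨hv, hv'⟩
      rcases eq_or_ne v 0 with rfl | hv0
      exacts [Or.inl rfl, Or.inr ⟨hv, hv0, hv'⟩]
  have h2 := Finset.card_insert_of_notMem (s := cls hQ Φ 0) (a := (0 : ι → F)) fun h => ((mem_cls hQ Φ).1 h).2.1 rfl
  rw [e] at h2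
  rw [h2, chi_zero, one_mul] at h
  push_cast at h
  linarith

/-- Counting the incidences of a class with the conjugates. -/
theorem class_count (D : Finset (ι → F)) {ε : F} {a : ι → F} (ha : a ∈ cls hQ Φ ε) :
    (fam hQ Φ D).card * ((cls hQ Φ ε).filter fun v => v ∈ D).card = (cls hQ Φ ε).card * mult hQ Φ D a := by
  have h1 : ∀ v ∈ cls hQ Φ ε, mult hQ Φ D v = mult hQ Φ D a := fun v hv => by
    obtain ⟨hvW, hv0, hvQ⟩ := (mem_cls hQ Φ).1 hv
    obtain ⟨haW, ha0, haQ⟩ := (mem_cls hQ Φ).1 ha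
    obtain ⟨g, hg, hgv⟩ := levi_trans hQ Φ hW hvW haW hv0 ha0 (hvQ.trans haQ.symm)
    have e1 := mult_le hQ Φ (D := D) hg v
    have e2 := mult_le hQ Φ (D := D) (inv_mem hg) a
    rw [hgv] at e1
    rw [← hgv, act_inv_act, hgv] at e2
    exact le_antisymm e1 e2
  have h2 : ∀ U ∈ fam hQ Φ D,
      ((cls hQ Φ ε).filter fun v => v ∈ U).card = ((cls hQ Φ ε).filter fun v => v ∈ D).card := by
    intro U hU
    obtain ⟨g, hg, rfl⟩ := (mem_fam hQ Φ).1 hU
    rw [← Finset.card_image_of_injective ((cls hQ Φ ε).filter fun v => v ∈ D) (act_injective g)]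
    congr 1
    have hmaps : ∀ g ∈ levi hQ Φ, ∀ v ∈ cls hQ Φ ε, act g v ∈ cls hQ Φ ε := fun g hg v hv => by
      obtain ⟨hvW, hv0, hvQ⟩ := (mem_cls hQ Φ).1 hv
      exact (mem_cls hQ Φ).2 ⟨(mem_wset hQ Φ).2 (inner_maps hQ hg ((mem_wset hQ Φ).1 hvW)),
        fun h => hv0 (act_injective g (h.trans (act_zero g).symm)), by rw [Q_act (Q := Q), hvQ]⟩
    ext v
    simp only [Finset.mem_filter, Finset.mem_image]
    constructor
    · rintro ⟨hv, d, hd, rfl⟩
      refine ⟨d, ⟨?_, hd⟩, rfl⟩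
      have := hmaps _ (inv_mem hg) _ hv
      rwa [act_inv_act] at this
    · rintro ⟨d, ⟨hd, hd'⟩, rfl⟩
      exact ⟨hmaps g hg d hd, d, hd', rfl⟩
  calc (fam hQ Φ D).card * ((cls hQ Φ ε).filter fun v => v ∈ D).card
      = ∑ U ∈ fam hQ Φ D, ((cls hQ Φ ε).filter fun v => v ∈ U).card := by
        rw [Finset.sum_congr rfl h2, Finset.sum_const, smul_eq_mul]
    _ = ∑ v ∈ cls hQ Φ ε, mult hQ Φ D v :=
        (Finset.sum_card_bipartiteAbove_eq_sum_card_bipartiteBelow (fun v U => v ∈ U)).symm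
    _ = _ := by rw [Finset.sum_congr rfl h1, Finset.sum_const, smul_eq_mul]

omit hW in
theorem half_le {D T : Finset (ι → F)} (hD : ∀ u ∈ D, ∀ w ∈ D, u + w ∈ D) (hT : T ⊆ D) {b : ι → F}
    (hb : b ∈ D) (h : ∀ t ∈ T, t + b ∉ T) : 2 * T.card ≤ D.card := by
  have hd : Disjoint T (T.image (· + b)) := Finset.disjoint_left.2 fun t ht ht' => by
    obtain ⟨t', ht'', rfl⟩ := Finset.mem_image.1 ht'
    exact h t' ht'' ht
  have h2 := Finset.card_le_card (Finset.union_subset hT
    (show T.image (· + b) ⊆ D from Finset.image_subset_iff.2 fun t ht => hD t (hT ht) b hb))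
  rw [Finset.card_union_of_disjoint hd, Finset.card_image_of_injective _ (add_left_injective b)] at h2
  omega

omit hW in
theorem diff_mem {D : Finset (ι → F)} (hD : ∀ u ∈ D, ∀ w ∈ D, u + w ∈ D) {w w₀ b : ι → F} (hb : b ∈ D)
    (hbw₀ : pol Q b w₀ = 1) (hor : w₀ ∉ D ∨ pol Q b w = 1)
    (h : D.image (refl (Q := Q) w) = D.image (refl (Q := Q) w₀)) : w + w₀ ∈ D := by
  have h1 : b + w₀ ∈ D.image (refl (Q := Q) w) := by
    rw [h]
    exact Finset.mem_image.2 ⟨b, hb, by rw [refl, hbw₀, one_smul]⟩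
  obtain ⟨d, hd, hde⟩ := Finset.mem_image.1 h1
  rw [refl] at hde
  rcases Two.out (pol Q d w) with h0 | h0
  · rw [h0, zero_smul, add_zero] at hde
    have hw₀D : w₀ ∈ D := by
      have := hD d hd b hb
      rwa [hde, add_comm b w₀, vadd_cancel] at this
    have hbw := hor.resolve_left fun hn => hn hw₀D
    have h2 : b + w ∈ D.image (refl (Q := Q) w₀) := by
      rw [← h]
      exact Finset.mem_image.2 ⟨b, hb, by rw [refl, hbw, one_smul]⟩
    obtain ⟨d', hd', hd'e⟩ := Finset.mem_image.1 h2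
    have hd2 : refl (Q := Q) w₀ d' ∈ D := by
      rw [refl]
      rcases Two.out (pol Q d' w₀) with h3 | h3
      · rwa [h3, zero_smul, add_zero]
      · rw [h3, one_smul]; exact hD d' hd' w₀ hw₀D
    rw [hd'e] at hd2
    have := hD _ (hD _ hd2 b hb) w₀ hw₀D
    rwa [show b + w + b = w by rw [add_comm b w, vadd_cancel]] at this
  · rw [h0, one_smul] at hde
    have := hD d hd b hb
    have e : d + b = w + w₀ := by
      rw [← vadd_cancel (d + b) w, show d + b + w = d + w + b by abel, hde,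
        show b + w₀ + b = w₀ by rw [add_comm b w₀, vadd_cancel], add_comm]
    rwa [e] at this

/-- Reflections orthogonal to a member give at most `mult` different images. -/
theorem image_bound {D : Finset (ι → F)} {a : ι → F} (ha : a ∈ D) (E : Finset (ι → F))
    (hE : ∀ w ∈ E, w ∈ wset hQ Φ ∧ Q w = 1 ∧ pol Q w a = 0) (n : ℕ)
    (hfib : ∀ w₀ ∈ E,
      (E.filter fun w => D.image (refl (Q := Q) w) = D.image (refl (Q := Q) w₀)).card ≤ n) :
    E.card ≤ n * mult hQ Φ D a := by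
  rcases E.eq_empty_or_nonempty with rfl | ⟨v, hv⟩
  · simp
  refine (Finset.card_le_mul_card_image (f := fun w => D.image (refl (Q := Q) w)) E n fun b hb => ?_).trans
    (Nat.mul_le_mul_left n ?_)
  · obtain ⟨w₀, hw₀, rfl⟩ := Finset.mem_image.1 hb
    exact hfib w₀ hw₀
  obtain ⟨hvW, hvQ, hva⟩ := hE v hv
  refine Finset.card_le_card_of_injOn (fun U => U.image (refl (Q := Q) v)) (fun U hU => ?_)
    (Finset.image_injective (Function.LeftInverse.injective (refl_refl hQ hvQ))).injOn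
  obtain ⟨w, hw, rfl⟩ := Finset.mem_image.1 hU
  obtain ⟨hwW, hwQ, hwa⟩ := hE w hw
  obtain ⟨g, hg, hgx⟩ := refl_pair hQ Φ hW hvW hwW hvQ hwQ
  refine Finset.mem_filter.2 ⟨(mem_fam hQ Φ).2 ⟨g, hg, ?_⟩, ?_⟩
  · show (D.image (refl (Q := Q) w)).image (refl (Q := Q) v) = _
    rw [Finset.image_image]
    exact Finset.image_congr fun x _ => (hgx x).symm
  · refine Finset.mem_image.2 ⟨a, Finset.mem_image.2 ⟨a, ha, ?_⟩, ?_⟩
    · rw [refl, pcomm a, hwa, zero_smul, add_zero]
    · rw [refl, pcomm a, hva, zero_smul, add_zero]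

omit hW in
theorem self_mem_fam (D : Finset (ι → F)) : D ∈ fam hQ Φ D :=
  (mem_fam hQ Φ).2 ⟨1, one_mem _, ((Finset.image_congr fun x _ => act_one x).trans Finset.image_id).symm⟩

omit hW in
theorem mult_pos {D : Finset (ι → F)} {v : ι → F} (hv : v ∈ D) : 1 ≤ mult hQ Φ D v :=
  Finset.card_pos.2 ⟨D, Finset.mem_filter.2 ⟨self_mem_fam hQ Φ D, hv⟩⟩

/-- A subgroup of intermediate order with a nonsingular member `a`, or totally singular. -/
structure Data (D : Finset (ι → F)) : Prop where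
  sub : D ⊆ wset hQ Φ
  zero : (0 : ι → F) ∈ D
  add : ∀ u ∈ D, ∀ w ∈ D, u + w ∈ D
  three : 3 ≤ D.card
  small : D.card < K * K

omit hW in
/-- The numbers of singular and nonsingular members. -/
theorem card_split {D : Finset (ι → F)} (hd : Data hQ Φ (K := K) D) :
    ((cls hQ Φ 0).filter fun v => v ∈ D).card + ((cls hQ Φ 1).filter fun v => v ∈ D).card + 1 = D.card := by
  rw [← Finset.card_union_of_disjoint, ← Finset.card_insert_of_notMem (a := (0 : ι → F))]
  · congr 1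
    ext v
    simp only [Finset.mem_insert, Finset.mem_union, Finset.mem_filter, mem_cls]
    constructor
    · rintro (rfl | ⟨-, h⟩ | ⟨-, h⟩)
      exacts [hd.zero, h, h]
    · intro hv
      rcases eq_or_ne v 0 with rfl | hv0
      · exact Or.inl rfl
      rcases Two.out (Q v) with h | h
      exacts [Or.inr (Or.inl ⟨⟨hd.sub hv, hv0, h⟩, hv⟩), Or.inr (Or.inr ⟨⟨hd.sub hv, hv0, h⟩, hv⟩)]
  · simp [mem_cls]
  · exact Finset.disjoint_left.2 fun v h h' => zero_ne_one (α := F)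
      (((mem_cls hQ Φ).1 (Finset.mem_filter.1 h).1).2.2.symm.trans
        ((mem_cls hQ Φ).1 (Finset.mem_filter.1 h').1).2.2)

/-- A class is covered by the orthogonals of the conjugates. -/
theorem cover {D : Finset (ι → F)} (hd : Data hQ Φ (K := K) D) :
    ∃ l : ℕ, (l + 2) * D.card = K * K ∧ ∃ ε : F,
      (cls hQ Φ ε).card ≤ (fam hQ Φ D).card * (l + 1) := by
  set L := (wset hQ Φ).filter fun x => ∀ d ∈ D, pol Q x d = 0 with hL
  have hLD : L.card * D.card = K * K := by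
    rw [hL, card_perp_mul hQ hW.add hd.zero hd.add (fun d h hd0 => hW.nd d (hd.sub h) hd0), hW.card]
  have hsmall := hd.small
  have hL2 : 2 ≤ L.card := by
    by_contra h
    have hl : L.card * D.card ≤ 1 * D.card := Nat.mul_le_mul_right _ (by omega)
    omega
  have h0L : (0 : ι → F) ∈ L := Finset.mem_filter.2 ⟨hW.zero, fun d _ => pzero_left hQ d⟩
  refine ⟨L.card - 2, by rw [Nat.sub_add_cancel hL2, hLD], ?_⟩
  rw [show L.card - 2 + 1 = L.card - 1 by omega]
  obtain ⟨a₀, ha₀⟩ : ∃ a₀, a₀ ∈ L.erase 0 := Finset.card_pos.1 (by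
    rw [Finset.card_erase_of_mem h0L]
    omega)
  obtain ⟨ha₀0, ha₀L⟩ := Finset.mem_erase.1 ha₀
  refine ⟨Q a₀, ?_⟩
  let P' : Finset (ι → F) → Finset (ι → F) := fun U =>
    ((wset hQ Φ).filter fun x => ∀ d ∈ U, pol Q x d = 0).erase 0
  have hsub : cls hQ Φ (Q a₀) ⊆ (fam hQ Φ D).biUnion P' := by
    intro v hv
    obtain ⟨hvW, hv0, hvQ⟩ := (mem_cls hQ Φ).1 hv
    obtain ⟨g, hg, hga⟩ := levi_trans hQ Φ hW (Finset.mem_filter.1 ha₀L).1 hvW ha₀0 hv0 hvQ.symm
    refine Finset.mem_biUnion.2 ⟨_, (mem_fam hQ Φ).2 ⟨g, hg, rfl⟩,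
      Finset.mem_erase.2 ⟨hv0, Finset.mem_filter.2 ⟨hvW, fun d hd => ?_⟩⟩⟩
    obtain ⟨d', hd', rfl⟩ := Finset.mem_image.1 hd
    rw [← hga, pol_act]
    exact (Finset.mem_filter.1 ha₀L).2 d' hd'
  refine (Finset.card_le_card hsub).trans (Finset.card_biUnion_le_card_mul _ _ _ fun U hU => ?_)
  obtain ⟨g, hg, rfl⟩ := (mem_fam hQ Φ).1 hU
  have h1 := card_perp_mul hQ (P := wset hQ Φ) (D := D.image (act g)) hW.add
    (Finset.mem_image.2 ⟨0, hd.zero, act_zero g⟩) (by
      intro u hu w hw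
      obtain ⟨u, hu', rfl⟩ := Finset.mem_image.1 hu
      obtain ⟨w, hw', rfl⟩ := Finset.mem_image.1 hw
      exact Finset.mem_image.2 ⟨u + w, hd.add u hu' w hw', act_add g u w⟩) (by
      intro d hd1 hd0
      obtain ⟨d, hd', rfl⟩ := Finset.mem_image.1 hd1
      exact hW.nd _ ((mem_wset hQ Φ).2 (inner_maps hQ hg ((mem_wset hQ Φ).1 (hd.sub hd')))) hd0)
  rw [Finset.card_image_of_injective _ (act_injective g), hW.card, ← hLD] at h1
  rw [Finset.card_erase_of_mem (Finset.mem_filter.2 ⟨hW.zero, fun d _ => pzero_left hQ d⟩),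
    Nat.eq_of_mul_eq_mul_right (Finset.card_pos.2 ⟨0, hd.zero⟩) h1]

omit hW in
theorem not_eq_zero_of_Q {v : ι → F} (h : Q v = 1) : v ≠ 0 := fun h0 => by
  rw [h0, qzero hQ] at h; exact zero_ne_one h

/-- A nonsingular member with a partner of product one. -/
theorem bound_nonorth {D : Finset (ι → F)} (hd : Data hQ Φ (K := K) D) {a b : ι → F} (ha : a ∈ D)
    (hb : b ∈ D) (hQa : Q a = 1) (hpab : pol Q a b = 1) :
    K * K ≤ 2 * (mult hQ Φ D a * D.card) + 2 * K ∧
      (((cls hQ Φ 0).filter fun v => v ∈ D).card = 0 → D.card ≤ 4) := by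
  have hD := hd.add
  have haW := hd.sub ha
  have hbW := hd.sub hb
  have ha0 := not_eq_zero_of_Q hQ hQa
  have hb0 : b ≠ 0 := fun h => by rw [h, pzero_right hQ] at hpab; exact zero_ne_one hpab
  have hab : a ≠ b := fun h => by rw [← h, pself hQ, two_eq_zero, zero_mul] at hpab; exact zero_ne_one hpab
  constructor
  · set E := (wset hQ Φ).filter fun w => Q w = 1 ∧ pol Q w a = 0 ∧ pol Q w b = 1 with hEdef
    have hEc := hW.count2 hQ haW hbW ha0 hb0 hab 1 0 1
    rw [← hEdef, chi_one, chi_zero] at hEc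
    simp only [one_mul] at hEc
    have hbound : ∀ n, (∀ w₀ ∈ E, (E.filter fun w =>
        D.image (refl (Q := Q) w) = D.image (refl (Q := Q) w₀)).card ≤ n) → E.card ≤ n * mult hQ Φ D a :=
      image_bound hQ Φ hW ha E (fun w hw => by
        obtain ⟨h1, h2, h3, -⟩ := Finset.mem_filter.1 hw; exact ⟨h1, h2, h3⟩)
    have hfibs : ∀ w₀ ∈ E, ∀ w ∈ E, D.image (refl (Q := Q) w) = D.image (refl (Q := Q) w₀) →
        w + w₀ ∈ D := fun w₀ hw₀ w hw h => by
      obtain ⟨-, -, -, h0⟩ := Finset.mem_filter.1 hw₀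
      obtain ⟨-, -, -, h1⟩ := Finset.mem_filter.1 hw
      exact diff_mem hQ hD hb (by rw [pcomm, h0]) (Or.inr (by rw [pcomm, h1])) h
    have hfib : ∀ w₀ ∈ E, (E.filter fun w =>
        D.image (refl (Q := Q) w) = D.image (refl (Q := Q) w₀)).card ≤ D.card / 4 := by
      intro w₀ hw₀
      set T := ((E.filter fun w => D.image (refl (Q := Q) w) = D.image (refl (Q := Q) w₀)).image (· + w₀))
        with hT
      have hTc := Finset.card_image_of_injective
        (E.filter fun w => D.image (refl (Q := Q) w) = D.image (refl (Q := Q) w₀)) (add_left_injective w₀)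
      have hT' : ∀ t ∈ T, t ∈ D ∧ pol Q t a = 0 ∧ pol Q t b = 0 := fun t ht => by
        obtain ⟨w, hw, rfl⟩ := Finset.mem_image.1 ht
        obtain ⟨hw, he⟩ := Finset.mem_filter.1 hw
        obtain ⟨-, -, h1, h2⟩ := Finset.mem_filter.1 hw
        obtain ⟨-, -, h3, h4'⟩ := Finset.mem_filter.1 hw₀
        exact ⟨hfibs w₀ hw₀ w hw he, by rw [padd_left hQ, h1, h3, add_zero],
          by rw [padd_left hQ, h2, h4', fadd_self]⟩
      have hpaa : pol Q a a = 0 := by rw [pself hQ, two_eq_zero, zero_mul]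
      have hd1 : Disjoint T (T.image (· + a)) := Finset.disjoint_left.2 fun x hx hx' => by
        obtain ⟨x', hx'', rfl⟩ := Finset.mem_image.1 hx'
        have := (hT' _ hx).2.2
        rw [padd_left hQ, (hT' x' hx'').2.2, hpab, zero_add] at this
        exact one_ne_zero this
      have h2 := half_le hQ (D := D) (T := T ∪ T.image (· + a)) hD
        (Finset.union_subset (fun t ht => (hT' t ht).1)
          (Finset.image_subset_iff.2 fun t ht => hD t (hT' t ht).1 a ha)) hb fun t ht ht' => by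
          have e : ∀ t ∈ T ∪ T.image (· + a), pol Q t a = 0 := fun t ht => by
            rcases Finset.mem_union.1 ht with h | h
            · exact (hT' t h).2.1
            · obtain ⟨t', ht', rfl⟩ := Finset.mem_image.1 h
              rw [padd_left hQ, (hT' t' ht').2.1, hpaa, add_zero]
          have := e _ ht'
          rw [padd_left hQ, e t ht, pcomm b a, hpab, zero_add] at this
          exact one_ne_zero this
      rw [Finset.card_union_of_disjoint hd1,
        Finset.card_image_of_injective _ (add_left_injective a), hT, hTc] at h2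
      omega
    have h1 := hbound _ hfib
    have h2 := Nat.mul_le_mul_right (mult hQ Φ D a) (Nat.mul_div_le D.card 4)
    have hQab : Q (a + b) = Q b := by
      rw [qadd hQ, hQa, hpab, add_comm (1 : F) (Q b), add_assoc, fadd_self, add_zero]
    rw [hQab, hQa, chi_one] at hEc
    have := chi_bounds (Q b)
    have hEn : (K : ℤ) * K ≤ 8 * (E.card : ℤ) + 2 * K := by rcases hW.sign with rfl | rfl <;> nlinarith
    have hEn' : K * K ≤ 8 * E.card + 2 * K := by exact_mod_cast hEn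
    nlinarith
  · intro hσ0
    by_contra hcon
    obtain ⟨x, hx, hx'⟩ := Finset.exists_mem_notMem_of_card_lt_card
      (s := ({0, a, b, a + b} : Finset (ι → F))) (t := D) (lt_of_le_of_lt Finset.card_le_four (by omega))
    simp only [Finset.mem_insert, Finset.mem_singleton, not_or] at hx'
    have hall : ∀ z ∈ D, z ≠ 0 → Q z = 1 := fun z hz hz0 => eq_one_of_ne_zero fun h =>
      Finset.notMem_empty z (Finset.card_eq_zero.1 hσ0 ▸
        Finset.mem_filter.2 ⟨(mem_cls hQ Φ).2 ⟨hd.sub hz, hz0, h⟩, hz⟩)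
    have hpp : ∀ y ∈ D, ∀ z ∈ D, y ≠ 0 → z ≠ 0 → y ≠ z → pol Q y z = 1 := fun y hy z hz hy0 hz0 hyz => by
      have := hall (y + z) (hD y hy z hz) fun h => hyz (eq_of_vadd_eq_zero h)
      rw [qadd hQ, hall y hy hy0, hall z hz hz0, fadd_self, zero_add] at this
      exact this
    have h := hpp x hx (a + b) (hD a ha b hb) hx'.1 (fun h => hab (eq_of_vadd_eq_zero h)) hx'.2.2.2
    rw [padd_right hQ, hpp x hx a ha hx'.1 ha0 hx'.2.1, hpp x hx b hb hx'.1 hb0 hx'.2.2.1, fadd_self] at h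
    exact zero_ne_one h

/-- A nonsingular member orthogonal to the whole subgroup. -/
theorem bound_orth {D : Finset (ι → F)} (hd : Data hQ Φ (K := K) D) {a : ι → F} (ha : a ∈ D)
    (hQa : Q a = 1) (horth : ∀ y ∈ D, pol Q a y = 0) :
    K * K ≤ 4 * (mult hQ Φ D a * D.card) ∧ ∃ z ∈ D, z ∈ cls hQ Φ 0 := by
  have hD := hd.add
  have haW := hd.sub ha
  have ha0 := not_eq_zero_of_Q hQ hQa
  obtain ⟨b, hb, hb'⟩ := Finset.exists_mem_notMem_of_card_lt_card
    (s := ({0, a} : Finset (ι → F))) (t := D) (lt_of_le_of_lt Finset.card_le_two (by have := hd.three; omega))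
  simp only [Finset.mem_insert, Finset.mem_singleton, not_or] at hb'
  obtain ⟨hb0, hab⟩ : b ≠ 0 ∧ a ≠ b := ⟨hb'.1, Ne.symm hb'.2⟩
  have hbW := hd.sub hb
  have hQab : Q (a + b) = Q b + 1 := by rw [qadd hQ, hQa, horth b hb, add_zero, add_comm]
  refine ⟨?_, ?_⟩
  · set E := (wset hQ Φ).filter fun w => Q w = 1 ∧ pol Q w a = 0 ∧ pol Q w b = 1 with hEdef
    have hEc := hW.count2 hQ haW hbW ha0 hb0 hab 1 0 1
    rw [← hEdef, hQab, hQa, chi_one, chi_zero, chi_add, chi_one] at hEc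
    simp only [one_mul] at hEc
    have hE : 8 * E.card = K * K := by
      have : 8 * (E.card : ℤ) = (K : ℤ) * K := by linear_combination hEc
      exact_mod_cast this
    have hbound : ∀ n, (∀ w₀ ∈ E, (E.filter fun w =>
        D.image (refl (Q := Q) w) = D.image (refl (Q := Q) w₀)).card ≤ n) → E.card ≤ n * mult hQ Φ D a :=
      image_bound hQ Φ hW ha E (fun w hw => by
        obtain ⟨h1, h2, h3, -⟩ := Finset.mem_filter.1 hw; exact ⟨h1, h2, h3⟩)
    have hfibs : ∀ w₀ ∈ E, ∀ w ∈ E, D.image (refl (Q := Q) w) = D.image (refl (Q := Q) w₀) →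
        w + w₀ ∈ D := fun w₀ hw₀ w hw h => by
      obtain ⟨-, -, -, h0⟩ := Finset.mem_filter.1 hw₀
      obtain ⟨-, -, -, h1⟩ := Finset.mem_filter.1 hw
      exact diff_mem hQ hD hb (by rw [pcomm, h0]) (Or.inr (by rw [pcomm, h1])) h
    have hfib : ∀ w₀ ∈ E, (E.filter fun w =>
        D.image (refl (Q := Q) w) = D.image (refl (Q := Q) w₀)).card ≤ D.card / 2 := by
      intro w₀ hw₀
      set T := ((E.filter fun w => D.image (refl (Q := Q) w) = D.image (refl (Q := Q) w₀)).image (· + w₀))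
        with hT
      have hTc := Finset.card_image_of_injective
        (E.filter fun w => D.image (refl (Q := Q) w) = D.image (refl (Q := Q) w₀)) (add_left_injective w₀)
      have h2 := half_le hQ (D := D) (T := T) hD (fun t ht => by
        obtain ⟨w, hw, rfl⟩ := Finset.mem_image.1 ht
        obtain ⟨hw, he⟩ := Finset.mem_filter.1 hw
        exact hfibs w₀ hw₀ w hw he) ha fun t ht ht' => by
        obtain ⟨w, hw, rfl⟩ := Finset.mem_image.1 ht
        obtain ⟨w', hw', he⟩ := Finset.mem_image.1 ht'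
        obtain ⟨-, hQw, hwa, -⟩ := Finset.mem_filter.1 (Finset.mem_filter.1 hw).1
        have hw'e : w' = w + a := by
          refine add_right_cancel (b := w₀) ?_
          rw [he]; abel
        have h' := (Finset.mem_filter.1 (Finset.mem_filter.1 hw').1).2.1
        rw [hw'e, qadd hQ, hQw, hQa, hwa, add_zero, fadd_self] at h'
        exact zero_ne_one h'
      rw [hT, hTc] at h2
      omega
    have h1 := hbound _ hfib
    have h2 := Nat.mul_le_mul_right (mult hQ Φ D a) (Nat.mul_div_le D.card 2)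
    nlinarith
  · rcases Two.out (Q b) with h | h
    · exact ⟨b, hb, (mem_cls hQ Φ).2 ⟨hbW, hb0, h⟩⟩
    · exact ⟨a + b, hD a ha b hb, (mem_cls hQ Φ).2 ⟨hW.add a haW b hbW,
        fun h' => hab (eq_of_vadd_eq_zero h'), by rw [hQab, h, fadd_self]⟩⟩

omit hW in
theorem ts_orth {D : Finset (ι → F)} (hd : Data hQ Φ (K := K) D) (hts : ∀ x ∈ D, Q x = 0) :
    ∀ x ∈ D, ∀ y ∈ D, pol Q x y = 0 := fun x hx y hy => by
  have := hts _ (hd.add x hx y hy)
  rwa [qadd hQ, hts x hx, hts y hy, add_zero, zero_add] at this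

/-- Images of a totally singular subgroup. -/
theorem ts_images {D : Finset (ι → F)} (hd : Data hQ Φ (K := K) D) (hts : ∀ x ∈ D, Q x = 0) {a : ι → F}
    (ha : a ∈ D) (E' : Finset (ι → F))
    (hE' : ∀ w ∈ E', w ∈ wset hQ Φ ∧ Q w = 1 ∧ pol Q w a = 0 ∧ ∃ c ∈ D, pol Q c w = 1) :
    2 * E'.card ≤ mult hQ Φ D a * D.card := by
  have hD := hd.add
  have hfib : ∀ w₀ ∈ E', (E'.filter fun w =>
        D.image (refl (Q := Q) w) = D.image (refl (Q := Q) w₀)).card ≤ D.card / 2 := by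
    intro w₀ hw₀
    obtain ⟨-, hQ₀, -, c, hc, hcw⟩ := hE' w₀ hw₀
    set T := ((E'.filter fun w => D.image (refl (Q := Q) w) = D.image (refl (Q := Q) w₀)).image (· + w₀))
      with hT
    have hTc := Finset.card_image_of_injective
      (E'.filter fun w => D.image (refl (Q := Q) w) = D.image (refl (Q := Q) w₀)) (add_left_injective w₀)
    have hT' : ∀ t ∈ T, t ∈ D ∧ pol Q t w₀ = 0 := fun t ht => by
      obtain ⟨w, hw, rfl⟩ := Finset.mem_image.1 ht
      obtain ⟨hw, he⟩ := Finset.mem_filter.1 hw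
      have hd := diff_mem hQ hD hc hcw (Or.inl fun h => zero_ne_one (α := F) ((hts w₀ h).symm.trans hQ₀)) he
      refine ⟨hd, ?_⟩
      have h1 := hts _ hd
      rw [qadd hQ, (hE' w hw).2.1, hQ₀, fadd_self, zero_add] at h1
      rw [padd_left hQ, h1, pself hQ, two_eq_zero, zero_mul, add_zero]
    have h2 := half_le hQ (D := D) (T := T) hD (fun t ht => (hT' t ht).1) hc fun t ht ht' => by
      have := (hT' _ ht').2
      rw [padd_left hQ, (hT' t ht).2, hcw, zero_add] at this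
      exact one_ne_zero this
    rw [hT, hTc] at h2
    omega
  have h1 := image_bound hQ Φ hW ha E' (fun w hw => ⟨(hE' w hw).1, (hE' w hw).2.1, (hE' w hw).2.2.1⟩) _ hfib
  have h2 := Nat.mul_le_mul_right (mult hQ Φ D a) (Nat.mul_div_le D.card 2)
  nlinarith

/-- A totally singular subgroup meets many images. -/
theorem bound_ts {D : Finset (ι → F)} (hd : Data hQ Φ (K := K) D) (hts : ∀ x ∈ D, Q x = 0) :
    D.card ≤ K ∧ ((cls hQ Φ 1).filter fun v => v ∈ D).card = 0 ∧
      ∃ a ∈ D, a ∈ cls hQ Φ 0 ∧ K * K ≤ 4 * (mult hQ Φ D a * D.card) ∧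
        (K = 8 → D.card = 8 → σ = 1 → 24 ≤ mult hQ Φ D a * D.card) ∧
        (σ = -1 → D.card < K) := by
  have hperp := ts_orth hQ Φ hd hts
  set L := (wset hQ Φ).filter fun x => ∀ d ∈ D, pol Q x d = 0 with hL
  have hLD : L.card * D.card = K * K := by
    rw [hL, card_perp_mul hQ hW.add hd.zero hd.add (fun d h hd0 => hW.nd d (hd.sub h) hd0), hW.card]
  have hDL : D ⊆ L := fun x hx => Finset.mem_filter.2 ⟨hd.sub hx, hperp x hx⟩
  have hDK : D.card ≤ K := by
    by_contra hcon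
    have h1 := Finset.card_le_card hDL
    nlinarith
  obtain ⟨a, ha, ha'⟩ := Finset.exists_mem_notMem_of_card_lt_card
    (s := ({0} : Finset (ι → F))) (t := D) (by rw [Finset.card_singleton]; have := hd.three; omega)
  rw [Finset.mem_singleton] at ha'
  obtain ⟨b, hb, hb'⟩ := Finset.exists_mem_notMem_of_card_lt_card
    (s := ({0, a} : Finset (ι → F))) (t := D) (lt_of_le_of_lt Finset.card_le_two (by have := hd.three; omega))
  simp only [Finset.mem_insert, Finset.mem_singleton, not_or] at hb'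
  have haW := hd.sub ha
  have hbW := hd.sub hb
  have hnotD : ∀ w ∈ wset hQ Φ, Q w = 1 → D.card = K → ∃ c ∈ D, pol Q c w = 1 := fun w hw hQw hcard => by
    have hLeq : L = D := (Finset.eq_of_subset_of_card_le hDL (by
      rw [hcard] at hLD ⊢
      have h8 := hW.big
      nlinarith)).symm
    by_contra hcon
    have hwL : w ∈ L := Finset.mem_filter.2 ⟨hw, fun c hc => by
      rw [pcomm]; exact eq_zero_of_ne_one fun h => hcon ⟨c, hc, h⟩⟩
    rw [hLeq] at hwL
    exact zero_ne_one (α := F) ((hts w hwL).symm.trans hQw)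
  refine ⟨hDK, Finset.card_eq_zero.2 (Finset.filter_eq_empty_iff.2 fun v hv hvD =>
    zero_ne_one (α := F) ((hts v hvD).symm.trans ((mem_cls hQ Φ).1 hv).2.2)),
    a, ha, (mem_cls hQ Φ).2 ⟨haW, ha', hts a ha⟩, ?_, ?_, ?_⟩
  · set E := (wset hQ Φ).filter fun w => Q w = 1 ∧ pol Q w a = 0 ∧ pol Q w b = 1 with hEdef
    have hEc := hW.count2 hQ haW hbW ha' hb'.1 (Ne.symm hb'.2) 1 0 1
    rw [← hEdef, hts _ (hd.add a ha b hb), hts a ha, hts b hb, chi_one, chi_zero] at hEc
    have hE : 8 * E.card = K * K := by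
      have : 8 * (E.card : ℤ) = (K : ℤ) * K := by linear_combination hEc
      exact_mod_cast this
    have h1 := ts_images hQ Φ hW hd hts ha E fun w hw => by
      obtain ⟨h1, h2, h3, h4⟩ := Finset.mem_filter.1 hw
      exact ⟨h1, h2, h3, b, hb, by rw [pcomm, h4]⟩
    nlinarith
  · intro hK8 hD8 hσ
    subst hσ
    set E := (wset hQ Φ).filter fun w => Q w = 1 ∧ pol Q w a = 0 with hEdef
    have hEc := hW.count1 hQ haW ha' 1 0
    rw [← hEdef, hts a ha, chi_one, chi_zero, hK8] at hEc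
    have hE12 : E.card = 12 := by
      have : (E.card : ℤ) = 12 := by push_cast at hEc; linarith
      exact_mod_cast this
    have h1 := ts_images hQ Φ hW hd hts ha E fun w hw => by
      obtain ⟨h1, h2, h3⟩ := Finset.mem_filter.1 hw
      exact ⟨h1, h2, h3, hnotD w h1 h2 (by rw [hD8, hK8])⟩
    omega
  · intro hσ
    refine lt_of_le_of_ne hDK fun hcard => ?_
    -- a totally singular subgroup of order K forces plus type
    have hLeq : D = L := Finset.eq_of_subset_of_card_le hDL (by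
      rw [hcard] at hLD ⊢
      have h8 := hW.big
      nlinarith)
    have hz : ∀ w ∈ wset hQ Φ, w ∉ D → ∑ d ∈ D, chi (Q (w + d)) = 0 := fun w hw hwD => by
      rw [hLeq, hL, Finset.mem_filter] at hwD
      obtain ⟨k, hk, hk1⟩ : ∃ k ∈ D, pol Q w k = 1 := by
        by_contra hcon
        exact hwD ⟨hw, fun d hd' => eq_zero_of_ne_one fun h => hcon ⟨d, hd', h⟩⟩
      have e : ∀ d ∈ D, chi (Q (w + d)) = chi (Q w) * chi (pol Q d w) := fun d hd' => by
        rw [qadd hQ, hts d hd', add_zero, chi_add, pcomm]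
      rw [Finset.sum_congr rfl e, ← Finset.mul_sum,
        sum_chi_pol_zero hQ hd.add hk (by rw [pcomm, hk1]), mul_zero]
    have e1 : ∑ w ∈ wset hQ Φ, ∑ d ∈ D, chi (Q (w + d)) = (D.card : ℤ) * (σ * K) := by
      have : ∀ d ∈ D, ∑ w ∈ wset hQ Φ, chi (Q (w + d)) = σ * K := fun d hd' => by
        rw [← hW.gauss]
        exact Finset.sum_nbij' (· + d) (· + d) (fun v hv => hW.add v hv d (hd.sub hd'))
          (fun v hv => hW.add v hv d (hd.sub hd')) (fun v _ => vadd_cancel v d) (fun v _ => vadd_cancel v d)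
          fun v _ => rfl
      rw [Finset.sum_comm, Finset.sum_congr rfl this, Finset.sum_const, nsmul_eq_mul]
    have e2 : ∑ w ∈ wset hQ Φ, ∑ d ∈ D, chi (Q (w + d)) = (D.card : ℤ) * D.card := by
      rw [← Finset.sum_subset hd.sub hz, Finset.sum_congr rfl (g := fun _ => (D.card : ℤ)) fun w hw => by
        rw [Finset.sum_congr rfl (g := fun _ => (1 : ℤ)) fun d hd' => by
          rw [hts _ (hd.add w hw d hd'), chi_zero]]
        simp]
      simp
    rw [e2, hσ, hcard] at e1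
    have h8 : (8 : ℤ) ≤ K := by exact_mod_cast hW.big
    nlinarith

omit hW in
/-- The three kinds of subgroups. -/
theorem trichotomy {D : Finset (ι → F)} :
    (∃ a ∈ D, ∃ b ∈ D, Q a = 1 ∧ pol Q a b = 1) ∨ (∃ a ∈ D, Q a = 1 ∧ ∀ y ∈ D, pol Q a y = 0) ∨
      ∀ x ∈ D, Q x = 0 := by
  by_cases h1 : ∃ x ∈ D, Q x = 1
  · obtain ⟨x, hx, hQx⟩ := h1
    by_cases h2 : ∃ y ∈ D, pol Q x y = 1
    · obtain ⟨y, hy, hxy⟩ := h2
      exact Or.inl ⟨x, hx, y, hy, hQx, hxy⟩
    · exact Or.inr (Or.inl ⟨x, hx, hQx, fun y hy => eq_zero_of_ne_one fun h => h2 ⟨y, hy, h⟩⟩)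
  · exact Or.inr (Or.inr fun u hu => eq_zero_of_ne_one fun h => h1 ⟨u, hu, h⟩)

end CfsgLib.PGroup.OrthTwoIndex
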