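import Cfsg.Agent.Lib.PGroup.OrthTwoIndex.Main
import Cfsg.Agent.Lib.Perm.Trans.QuadSimple
import Cfsg.Agent.Lib.Perm.Trans.QuadStd

/-!
The minimal index of a proper subgroup of the orthogonal groups of even dimension over the field with
two elements.
-/

set_option autoImplicit false
set_option linter.unusedSectionVars false

namespace CfsgLib.PGroup.OrthTwoIndex

open scoped Matrix
open Matrix Cfsg.Geo CfsgLib.Perm.Asch CfsgLib.Perm.Trans CfsgLib.Perm.Trans.Quad CfsgLib.PGroup.OrthIndex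
open scoped _root_.Classical

variable {ι : Type} [Fintype ι] [DecidableEq ι] {F : Type*} [Field F] [Fintype F] [Two F]
variable {Q : (ι → F) → F}

local notation "pol" => QuadraticMap.polar

variable (hQ : IsNondegenerateQuadraticForm Q) {K : ℕ} {σ : ℤ}
include hQ

/-- The action on vectors. -/
@[reducible] def vecAct : MulAction ↥(eGroup Q) (ι → F) where
  smul g v := act g v
  one_smul := act_one
  mul_smul := act_mul

theorem center_eq_bot (hn : 5 ≤ Fintype.card ι) (hV : Space Q (Finset.univ : Finset (ι → F)) K σ) :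
    Subgroup.center (Cfsg.Omega F Q) = ⊥ := by
  refine (Subgroup.eq_bot_iff_forall _).2 fun z hz => ?_
  have hsing : ∀ u : ι → F, Q u = 0 → (omv z : Matrix ι ι F) *ᵥ u = u := by
    intro u hu
    rcases eq_or_ne u 0 with rfl | hu0
    · rw [mulVec_zero]
    obtain ⟨c, hc⟩ := center_fix hQ hn hz hu0 hu
    rcases Two.out c with rfl | rfl
    · rw [zero_smul, gl_mulVec_eq_zero] at hc
      exact absurd hc hu0
    · rw [hc, one_smul]
  have hall : ∀ w : ι → F, (omv z : Matrix ι ι F) *ᵥ w = w := by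
    intro w
    rcases Two.out (Q w) with hw | hw
    · exact hsing w hw
    have hw0 : w ≠ 0 := fun h => by rw [h, qzero hQ] at hw; exact zero_ne_one hw
    obtain ⟨p, -, hp⟩ := hV.nd w (Finset.mem_univ _) hw0
    have hp0 : p ≠ 0 := fun h => by rw [h, pzero_left hQ] at hp; exact zero_ne_one hp
    have hne : w ≠ p := fun h => by rw [h, pself hQ, two_eq_zero, zero_mul] at hp; exact zero_ne_one hp
    obtain ⟨s, -, -, hs, hsw, -⟩ := hV.exists_sing hQ (Finset.mem_univ w) (Finset.mem_univ p) hw0 hp0 hne 1 0 ∅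
      (by simp)
    have h1 := hsing (w + s) (by rw [qadd hQ, hw, hs, pcomm, hsw, add_zero, fadd_self])
    rw [mulVec_add, hsing s hs] at h1
    exact add_right_cancel h1
  have h1 : omv z = 1 := gl_ext_vec fun w => by rw [hall]; simp
  exact Subtype.ext (Subtype.ext h1)

/-- From trivial small actions to the index. -/
theorem index_core (hn : 5 ≤ Fintype.card ι) (hV : Space Q (Finset.univ : Finset (ι → F)) K σ) (B : ℕ)
    (hfix : ∀ H : Subgroup ↥(eGroup Q), H.index < B → ∀ g : ↥(eGroup Q), g ∈ H)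
    (w : ι → F) (hw0 : w ≠ 0) (hB : (Finset.univ.filter fun v : ι → F => v ≠ 0 ∧ Q v = Q w).card = B) :
    (∀ H : Subgroup (Cfsg.POmega F Q), H ≠ ⊤ → B ≤ H.index) ∧
      ∃ H : Subgroup (Cfsg.POmega F Q), H.index = B := by
  set π := QuotientGroup.mk' (Subgroup.center (Cfsg.Omega F Q)) with hπ
  let φ : Cfsg.Omega F Q ≃* ↥(eGroup Q) :=
    ((Cfsg.Omega F Q).equivMapOfInjective _ (Cfsg.isometryGroup F Q).subtype_injective).trans
      (MulEquiv.subgroupCongr (omegaGL_eq hQ hn))
  have hbij : Function.Bijective π := by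
    refine ⟨(MonoidHom.ker_eq_bot_iff _).1 ?_, QuotientGroup.mk'_surjective _⟩
    rw [hπ, QuotientGroup.ker_mk', center_eq_bot hQ hn hV]
  let ψ : Cfsg.POmega F Q ≃* ↥(eGroup Q) := (MulEquiv.ofBijective π hbij).symm.trans φ
  constructor
  · intro H hH
    by_contra hlt
    rw [not_le] at hlt
    have htop := hfix (H.map ψ.toMonoidHom) ((Subgroup.index_map_equiv H ψ).trans_lt hlt)
    refine hH (eq_top_iff.2 fun g _ => ?_)
    obtain ⟨g', hg', he⟩ := htop (ψ g)
    rwa [← ψ.injective he]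
  · letI := vecAct (Q := Q)
    refine ⟨(MulAction.stabilizer ↥(eGroup Q) w).map ψ.symm.toMonoidHom, ?_⟩
    rw [show ((MulAction.stabilizer ↥(eGroup Q) w).map ψ.symm.toMonoidHom).index =
      (MulAction.stabilizer ↥(eGroup Q) w).index from Subgroup.index_map_equiv _ ψ.symm,
      MulAction.index_stabilizer]
    refine (congrArg Set.ncard (show _ = (↑(Finset.univ.filter fun v : ι → F => v ≠ 0 ∧ Q v = Q w) :
      Set (ι → F)) from ?_)).trans ((Set.ncard_coe_finset _).trans hB)
    ext v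
    rw [Finset.mem_coe, Finset.mem_filter_univ]
    constructor
    · rintro ⟨g, rfl⟩
      exact ⟨fun h => hw0 (act_injective g (h.trans (act_zero g).symm)), Q_act (Q := Q) g w⟩
    · rintro ⟨hv0, hv⟩
      rcases Two.out (Q w) with hQw | hQw
      · obtain ⟨g, hg, hgw⟩ := CfsgLib.Perm.Trans.Quad.exists_move hQ hn hw0 hv0 hQw (hv.trans hQw)
        exact ⟨⟨g, hg⟩, hgw⟩
      · obtain ⟨g, hg, hgw⟩ := exists_move_value hQ hn (v := w) (w := v) (by rw [hQw]; exact one_ne_zero)
          hv.symm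
        exact ⟨⟨g, hg⟩, hgw⟩

/-- The number of vectors of value one, and of nonzero singular vectors. -/
theorem card_values (hV : Space Q (Finset.univ : Finset (ι → F)) K σ) :
    2 * ((Finset.univ.filter fun v : ι → F => v ≠ 0 ∧ Q v = 1).card : ℤ) = (K : ℤ) * K - σ * K ∧
      2 * ((Finset.univ.filter fun v : ι → F => v ≠ 0 ∧ Q v = 0).card : ℤ) + 2 = (K : ℤ) * K + σ * K := by
  have h1 := hV.count0 hQ (1 : F)
  have h0 := hV.count0 hQ (0 : F)
  constructor
  · rw [show (Finset.univ.filter fun v : ι → F => v ≠ 0 ∧ Q v = 1) = Finset.univ.filter fun v : ι → F => Q v = 1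
      from Finset.filter_congr fun v _ => ⟨fun h => h.2, fun h => ⟨fun h0 => by
        rw [h0, qzero hQ] at h; exact zero_ne_one h, h⟩⟩, h1, chi_one]
    ring
  · have e : insert 0 (Finset.univ.filter fun v : ι → F => v ≠ 0 ∧ Q v = 0) =
        Finset.univ.filter fun v : ι → F => Q v = 0 := by
      ext v
      rcases eq_or_ne v 0 with rfl | hv <;> simp [qzero hQ, *]
    have h2 := Finset.card_insert_of_notMem (s := Finset.univ.filter fun v : ι → F => v ≠ 0 ∧ Q v = 0)
      (a := (0 : ι → F)) (by simp)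
    rw [e] at h2
    rw [h2, chi_zero, one_mul] at h0
    push_cast at h0
    linarith

/-- The minimal index, plus type. -/
theorem pomega_min_index_two (hn : 8 ≤ Fintype.card ι) (hV : Space Q (Finset.univ : Finset (ι → F)) (2 * K) 1)
    (hK : K = 8 ∨ 16 ≤ K) :
    (∀ H : Subgroup (Cfsg.POmega F Q), H ≠ ⊤ → 2 * (K * K) - K ≤ H.index) ∧
      ∃ H : Subgroup (Cfsg.POmega F Q), H.index = 2 * (K * K) - K := by
  obtain ⟨h1, -⟩ := card_values hQ hV
  push_cast at h1
  have hKK : K ≤ K * K := Nat.le_mul_self K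
  obtain ⟨w, hw⟩ : (Finset.univ.filter fun v : ι → F => v ≠ 0 ∧ Q v = 1).Nonempty := by
    refine Finset.card_pos.1 ?_
    suffices (0 : ℤ) < ((Finset.univ.filter fun v : ι → F => v ≠ 0 ∧ Q v = 1).card : ℤ) by exact_mod_cast this
    have hb : (8 : ℤ) ≤ 2 * K := by exact_mod_cast hV.big
    nlinarith
  obtain ⟨hw0, hQw⟩ := (Finset.mem_filter.1 hw).2
  refine index_core hQ (by omega) hV _ (fun H hH g => ?_) w hw0 ?_
  · haveI : Finite ↥(eGroup Q) := Finite.of_injective _ (Subtype.val_injective)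
    letI := Fintype.ofFinite (↥(eGroup Q) ⧸ H)
    rw [Subgroup.index, Nat.card_eq_fintype_card] at hH
    have hsmall : Fintype.card (↥(eGroup Q) ⧸ H) + K < 2 * (K * K) := by omega
    have hfam : ∀ (Φ : Frame Q) (D : Finset (ι → F)), Φ.P = ⊤ → Data hQ Φ (K := K) D →
        Fintype.card (↥(eGroup Q) ⧸ H) < (fam hQ Φ D).card * D.card := fun Φ D hP hd => by
      have := family_bound hQ Φ (space_W hQ Φ hP (by omega) hV) rfl D hd hK
      omega
    have h1 := all_fix hQ hV (by omega) (by omega) hsmall hfam (fun Φ hP x y hx hy => by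
      obtain ⟨ε, hε⟩ := mix_count hQ hV (by omega) (by omega) hsmall hfam hP hx hy
      have hW := space_W hQ Φ hP (by omega) hV
      have c0 := card_cls_zero hQ Φ hW
      have c1 := card_cls_one hQ Φ hW
      have hKK' : (K : ℤ) * K ≤ 2 * ((cls hQ Φ ε).card : ℤ) + K := by
        have hb : (8 : ℤ) ≤ K := by exact_mod_cast (show 8 ≤ K by omega)
        rcases Two.out ε with rfl | rfl <;> linarith
      have hKK'' : K * K ≤ 2 * (cls hQ Φ ε).card + K := by exact_mod_cast hKK'
      omega) ((1 : ↥(eGroup Q)) : ↥(eGroup Q) ⧸ H) g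
    rw [MulAction.Quotient.smul_coe, smul_eq_mul, mul_one] at h1
    rwa [QuotientGroup.eq, mul_one, inv_mem_iff] at h1
  · rw [hQw]
    have h' : (Finset.univ.filter fun v : ι → F => v ≠ 0 ∧ Q v = 1).card + K = 2 * (K * K) := by
      have : ((Finset.univ.filter fun v : ι → F => v ≠ 0 ∧ Q v = 1).card : ℤ) + K = 2 * (K * K) := by linarith
      exact_mod_cast this
    omega

/-- The minimal index, minus type. -/
theorem pomega_min_index_two_minus (hn : 8 ≤ Fintype.card ι)
    (hV : Space Q (Finset.univ : Finset (ι → F)) (2 * K) (-1)) (hK : K = 8 ∨ 16 ≤ K) :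
    (∀ H : Subgroup (Cfsg.POmega F Q), H ≠ ⊤ → 2 * (K * K) - K - 1 ≤ H.index) ∧
      ∃ H : Subgroup (Cfsg.POmega F Q), H.index = 2 * (K * K) - K - 1 := by
  obtain ⟨-, h0⟩ := card_values hQ hV
  push_cast at h0
  have hKK : 8 * K ≤ K * K := Nat.mul_le_mul_right _ (by omega)
  obtain ⟨N, hN⟩ : ∃ N, (Finset.univ.filter fun v : ι → F => v ≠ 0 ∧ Q v = 0).card = N := ⟨_, rfl⟩
  rw [hN] at h0
  have hN' : N + K + 1 = 2 * (K * K) := by
    have : (N : ℤ) + K + 1 = 2 * (K * K) := by linarith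
    exact_mod_cast this
  obtain ⟨w, hw⟩ : (Finset.univ.filter fun v : ι → F => v ≠ 0 ∧ Q v = 0).Nonempty :=
    Finset.card_pos.1 (by rw [hN]; omega)
  obtain ⟨hw0, hQw⟩ := (Finset.mem_filter.1 hw).2
  refine index_core hQ (by omega) hV _ (fun H hH g => ?_) w hw0 (by rw [hQw, hN]; omega)
  haveI : Finite ↥(eGroup Q) := Finite.of_injective _ (Subtype.val_injective)
  letI := Fintype.ofFinite (↥(eGroup Q) ⧸ H)
  rw [Subgroup.index, Nat.card_eq_fintype_card] at hH
  have hsmall : Fintype.card (↥(eGroup Q) ⧸ H) + K < 2 * (K * K) := by omega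
  have hfam : ∀ (Φ : Frame Q) (D : Finset (ι → F)), Φ.P = ⊤ → Data hQ Φ (K := K) D →
      Fintype.card (↥(eGroup Q) ⧸ H) < (fam hQ Φ D).card * D.card := fun Φ D hP hd => by
    have := family_bound_minus hQ Φ (space_W hQ Φ hP (by omega) hV) rfl D hd hK
    omega
  have h1 := all_fix hQ hV (by omega) (by omega) hsmall hfam (fun Φ hP x y hx hy => by
    obtain ⟨ε, hε⟩ := mix_count hQ hV (by omega) (by omega) hsmall hfam hP hx hy
    have hW := space_W hQ Φ hP (by omega) hV
    have c0 := card_cls_zero hQ Φ hW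
    have c1 := card_cls_one hQ Φ hW
    have hKK' : (K : ℤ) * K ≤ 2 * ((cls hQ Φ ε).card : ℤ) + K + 2 := by
      rcases Two.out ε with rfl | rfl <;> linarith
    have hKK'' : K * K ≤ 2 * (cls hQ Φ ε).card + K + 2 := by exact_mod_cast hKK'
    -- the number of points is one less than the number of singular points
    obtain ⟨n, hn'⟩ : ∃ n, Fintype.card (↥(eGroup Q) ⧸ H) = n := ⟨_, rfl⟩
    have hnN : n + 1 = N := by omega
    let Z := Finset.univ.filter fun v : ι → F => v ≠ 0 ∧ Q v = 0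
    let c : ↥(eGroup Q) ⧸ H → ℕ := fun p => (Z.filter fun z => Triv hQ p z).card
    have hc : ∀ p p', c p ≤ c p' := by
      intro p p'
      obtain ⟨g, rfl⟩ := MulAction.exists_smul_eq ↥(eGroup Q) p p'
      refine Finset.card_le_card_of_injOn (act g) (fun z hz => ?_) (act_injective g).injOn
      obtain ⟨hz, hzp⟩ := Finset.mem_filter.1 hz
      obtain ⟨hz0, hQz⟩ := (Finset.mem_filter.1 hz).2
      exact Finset.mem_filter.2 ⟨Finset.mem_filter.2 ⟨Finset.mem_univ _,
        fun h => hz0 (act_injective g (h.trans (act_zero g).symm)), by rw [Q_act (Q := Q), hQz]⟩,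
        hzp.map_two g hQz⟩
    have hz : ∀ z ∈ Z, (Finset.univ.filter fun p : ↥(eGroup Q) ⧸ H => Triv hQ p z).card = K * K := by
      intro z hz
      obtain ⟨hz0, hQz⟩ := (Finset.mem_filter.1 hz).2
      obtain ⟨Ψ, hΨ, rfl⟩ := exists_frame hQ (by omega) hQz hz0
      obtain ⟨g, hg, hge⟩ := CfsgLib.Perm.Trans.Quad.exists_move hQ (by omega) (Φ.e_ne hQ) hz0 Φ.hQe hQz
      have hy' := hy.map_two ⟨g, hg⟩ Φ.hQe
      rw [show act (⟨g, hg⟩ : ↥(eGroup Q)) Φ.e = Ψ.e from hge] at hy'
      exact card_triv hQ hV (by omega) hsmall (by omega) hΨ hy'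
    have e1 : ∑ p, c p = ∑ z ∈ Z, (Finset.univ.filter fun p : ↥(eGroup Q) ⧸ H => Triv hQ p z).card :=
      Finset.sum_card_bipartiteAbove_eq_sum_card_bipartiteBelow (fun p z => Triv hQ p z)
    rw [Finset.sum_congr rfl (fun p _ => le_antisymm (hc p x) (hc x p)), Finset.sum_congr rfl hz,
      Finset.sum_const, Finset.sum_const, Finset.card_univ, hn', smul_eq_mul, smul_eq_mul,
      show Z.card = N from hN, ← hnN] at e1
    have hdvd : n ∣ (n + 1) * (K * K) := ⟨c x, e1.symm⟩
    rw [add_mul, one_mul, Nat.dvd_add_right (Dvd.intro _ rfl)] at hdvd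
    have := Nat.le_of_dvd (by omega) hdvd
    omega) ((1 : ↥(eGroup Q)) : ↥(eGroup Q) ⧸ H) g
  rw [MulAction.Quotient.smul_coe, smul_eq_mul, mul_one] at h1
  rwa [QuotientGroup.eq, mul_one, inv_mem_iff] at h1

omit hQ in
/-- The split form has plus type. -/
theorem space_plus {m : ℕ} (hm : 4 ≤ m) :
    Space (Cfsg.quadFormPlus m F) (Finset.univ : Finset (Fin m ⊕ Fin m → F)) (2 * 2 ^ (m - 1)) 1 := by
  have e1 : 2 * 2 ^ (m - 1) = 2 ^ m := by rw [← pow_succ']; congr 1; omega
  have hu : (Finset.univ : Finset F) = {0, 1} := Finset.ext fun c => by simpa using Two.out c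
  have h2 : Fintype.card F = 2 := by rw [← Finset.card_univ, hu, Finset.card_pair zero_ne_one]
  rw [e1]
  refine ⟨Finset.mem_univ _, fun _ _ _ _ => Finset.mem_univ _, fun c _ hc => ?_, ?_, ?_, Or.inl rfl, ?_⟩
  · obtain ⟨x, -, hx⟩ := ((ndOn_top quadFormPlus_nd) c Submodule.mem_top hc).1
    exact ⟨x, Finset.mem_univ _, eq_one_of_ne_zero hx⟩
  · rw [Finset.card_univ, Fintype.card_fun, Fintype.card_sum, Fintype.card_fin, h2, pow_add]
  · have hprod : ∀ (s : Finset (Fin m)) (f : Fin m → F), chi (∑ i ∈ s, f i) = ∏ i ∈ s, chi (f i) := by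
      intro s f
      induction s using Finset.induction_on with
      | empty => simp [chi_zero]
      | insert i s hi ih => rw [Finset.sum_insert hi, Finset.prod_insert hi, chi_add, ih]
    let e : (Fin m ⊕ Fin m → F) ≃ (Fin m → F × F) :=
      ⟨fun a i => (a (.inl i), a (.inr i)), fun p => Sum.elim (fun i => (p i).1) fun i => (p i).2,
        fun a => by funext j; rcases j with i | i <;> rfl, fun p => rfl⟩
    rw [Fintype.sum_equiv e (fun a => chi (Cfsg.quadFormPlus m F a)) (fun p => ∏ i, chi ((p i).1 * (p i).2))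
      fun a => hprod Finset.univ fun i => a (.inl i) * a (.inr i)]
    rw [← Fintype.prod_sum (fun (_ : Fin m) (p : F × F) => chi (p.1 * p.2)), Fintype.sum_prod_type, hu]
    simp [chi_zero, chi_one]
  · calc (8 : ℕ) ≤ 2 ^ 4 := by norm_num
      _ ≤ 2 ^ m := Nat.pow_le_pow_right (by norm_num) hm

omit hQ in
/-- The form with anisotropic binary part has minus type. -/
theorem space_minus {m : ℕ} (hm : 4 ≤ m) (a b : F)
    (hab : ∀ z₁ z₂ : F, z₁ ^ 2 + a * z₁ * z₂ + b * z₂ ^ 2 = 0 → z₁ = 0 ∧ z₂ = 0) :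
    Space (Cfsg.quadFormMinus (m - 1) F a b)
      (Finset.univ : Finset ((Fin (m - 1) ⊕ Fin (m - 1)) ⊕ Fin 2 → F)) (2 * 2 ^ (m - 1)) (-1) := by
  have hu : (Finset.univ : Finset F) = {0, 1} := Finset.ext fun c => by simpa using Two.out c
  have h2 : Fintype.card F = 2 := by rw [← Finset.card_univ, hu, Finset.card_pair zero_ne_one]
  obtain ⟨k, rfl⟩ : ∃ k, m = k + 1 := ⟨m - 1, by omega⟩
  rw [Nat.add_sub_cancel]
  have hb : b = 1 := eq_one_of_ne_zero fun h => one_ne_zero (hab 0 1 (by rw [h]; ring)).2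
  have ha : a = 1 := eq_one_of_ne_zero fun h =>
    one_ne_zero (hab 1 1 (by rw [h, hb]; linear_combination two_eq_zero (F := F))).1
  refine ⟨Finset.mem_univ _, fun _ _ _ _ => Finset.mem_univ _, fun c _ hc => ?_, ?_, ?_, Or.inr rfl, ?_⟩
  · obtain ⟨x, -, hx⟩ := ((ndOn_top (quadFormMinus_nd a b hab)) c Submodule.mem_top hc).1
    exact ⟨x, Finset.mem_univ _, eq_one_of_ne_zero hx⟩
  · rw [Finset.card_univ, Fintype.card_fun, Fintype.card_sum, Fintype.card_sum, Fintype.card_fin, Fintype.card_fin, h2]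
    ring
  · have hprod : ∀ (s : Finset (Fin k)) (f : Fin k → F), chi (∑ i ∈ s, f i) = ∏ i ∈ s, chi (f i) := by
      intro s f
      induction s using Finset.induction_on with
      | empty => simp [chi_zero]
      | insert i s hi ih => rw [Finset.sum_insert hi, Finset.prod_insert hi, chi_add, ih]
    let e : ((Fin k ⊕ Fin k) ⊕ Fin 2 → F) ≃ (Fin k → F × F) × F × F :=
      ⟨fun v => (fun i => (v (.inl (.inl i)), v (.inl (.inr i))), v (.inr 0), v (.inr 1)),
        fun p => Sum.elim (Sum.elim (fun i => (p.1 i).1) fun i => (p.1 i).2) ![p.2.1, p.2.2],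
        fun v => by funext j; rcases j with (i | i) | i <;> first | rfl | (fin_cases i <;> rfl),
        fun p => rfl⟩
    rw [Fintype.sum_equiv e (fun v => chi (Cfsg.quadFormMinus k F a b v))
      (fun p => (∏ i, chi ((p.1 i).1 * (p.1 i).2)) *
        chi (p.2.1 ^ 2 + a * p.2.1 * p.2.2 + b * p.2.2 ^ 2)) fun v => by
      show chi (Cfsg.quadFormMinus k F a b v) = _
      rw [← hprod, ← chi_add]
      congr 1]
    rw [Fintype.sum_prod_type]
    simp only [← Finset.mul_sum, ← Finset.sum_mul]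
    rw [← Fintype.prod_sum (fun (_ : Fin k) (p : F × F) => chi (p.1 * p.2))]
    simp [Fintype.sum_prod_type, hu, ha, hb, chi_zero, chi_one, fadd_self]
    ring
  · calc (8 : ℕ) ≤ 2 * 2 ^ 3 := by norm_num
      _ ≤ 2 * 2 ^ k := Nat.mul_le_mul_left 2 (Nat.pow_le_pow_right (by norm_num) (by omega))

end CfsgLib.PGroup.OrthTwoIndex
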