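import Cfsg.Agent.Lib.PGroup.OrthIndex.Types

/-!
Counting with quadratic forms of plus type over the field with two elements.
-/

set_option autoImplicit false
set_option linter.unusedSectionVars false

namespace CfsgLib.PGroup.OrthTwoIndex

open scoped Matrix
open Matrix Cfsg.Geo CfsgLib.Perm.Trans CfsgLib.Perm.Trans.Quad CfsgLib.PGroup.OrthIndex

/-- A field whose elements are `0` and `1`. -/
class Two (F : Type*) [Field F] : Prop where
  out : ∀ a : F, a = 0 ∨ a = 1

variable {ι : Type} [Fintype ι] [DecidableEq ι] {F : Type*} [Field F] [Fintype F] [Two F]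
variable {Q : (ι → F) → F}

local notation "pol" => QuadraticMap.polar

theorem two_eq_zero : (2 : F) = 0 := by
  rcases Two.out (2 : F) with h | h
  · exact h
  · exact absurd (show (1 : F) = 0 by linear_combination h) one_ne_zero

instance : CharP F 2 := CharTwo.of_one_ne_zero_of_two_eq_zero one_ne_zero two_eq_zero

theorem fadd_self (a : F) : a + a = 0 := CharTwo.add_self_eq_zero a

theorem vadd_self (u : ι → F) : u + u = 0 := funext fun i => fadd_self (u i)

theorem vadd_cancel (u w : ι → F) : u + w + w = u := by rw [add_assoc, vadd_self, add_zero]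

theorem eq_of_vadd_eq_zero {u w : ι → F} (h : u + w = 0) : u = w := by
  rw [← vadd_cancel u w, h, zero_add]

theorem eq_one_of_ne_zero {a : F} (h : a ≠ 0) : a = 1 := (Two.out a).resolve_left h

theorem eq_zero_of_ne_one {a : F} (h : a ≠ 1) : a = 0 := (Two.out a).resolve_right h

theorem ne_one_iff {a : F} : a ≠ 1 ↔ a = 0 :=
  ⟨eq_zero_of_ne_one, fun h => h ▸ zero_ne_one⟩

/-- The sign character. -/
noncomputable def chi (a : F) : ℤ := by classical exact if a = 0 then 1 else -1

theorem chi_zero : chi (0 : F) = 1 := by simp [chi]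

theorem chi_one : chi (1 : F) = -1 := by simp [chi]

theorem chi_add (a b : F) : chi (a + b) = chi a * chi b := by
  rcases Two.out a with rfl | rfl <;> rcases Two.out b with rfl | rfl <;>
    simp [chi_zero, chi_one, fadd_self]

theorem chi_bounds (a : F) : -1 ≤ chi a ∧ chi a ≤ 1 := by
  rcases Two.out a with rfl | rfl <;> simp [chi_zero, chi_one]

theorem two_mul_ind [DecidableEq F] (a b : F) :
    2 * (if a = b then 1 else 0 : ℤ) = 1 + chi a * chi b := by
  rcases Two.out a with rfl | rfl <;> rcases Two.out b with rfl | rfl <;> simp [chi_zero, chi_one]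

open scoped _root_.Classical

/-- A set of vectors carrying a nondegenerate form with `K * K` vectors, of plus type for `σ = 1` and
of minus type for `σ = -1`. -/
structure Space (Q : (ι → F) → F) (P : Finset (ι → F)) (K : ℕ) (σ : ℤ) : Prop where
  zero : (0 : ι → F) ∈ P
  add : ∀ u ∈ P, ∀ w ∈ P, u + w ∈ P
  nd : ∀ c ∈ P, c ≠ 0 → ∃ x ∈ P, pol Q x c = 1
  card : P.card = K * K
  gauss : ∑ v ∈ P, chi (Q v) = σ * K
  sign : σ = 1 ∨ σ = -1
  big : 8 ≤ K

variable (hQ : IsNondegenerateQuadraticForm Q)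
include hQ

theorem sum_chi_pol_zero {P : Finset (ι → F)} (hP : ∀ u ∈ P, ∀ w ∈ P, u + w ∈ P) {c k : ι → F} (hk : k ∈ P)
    (h : pol Q k c = 1) : ∑ v ∈ P, chi (pol Q v c) = 0 := by
  refine Finset.sum_involution (fun v _ => v + k) (fun v _ => ?_) (fun v _ _ he => ?_)
    (fun v hv => hP v hv k hk) (fun v _ => vadd_cancel v k)
  · rw [padd_left hQ, h, chi_add, chi_one]; ring
  · rw [add_eq_left.1 he, pzero_left hQ] at h
    exact zero_ne_one h

/-- Orthogonals of subgroups. -/
theorem card_perp_mul {P D : Finset (ι → F)} (hP : ∀ u ∈ P, ∀ w ∈ P, u + w ∈ P) (hD0 : (0 : ι → F) ∈ D)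
    (hD : ∀ u ∈ D, ∀ w ∈ D, u + w ∈ D) (hnd : ∀ d ∈ D, d ≠ 0 → ∃ x ∈ P, pol Q x d = 1) :
    (P.filter fun x => ∀ d ∈ D, pol Q x d = 0).card * D.card = P.card := by
  have e1 : ∑ x ∈ P, ∑ d ∈ D, chi (pol Q x d) =
      ((P.filter fun x => ∀ d ∈ D, pol Q x d = 0).card * D.card : ℕ) := by
    have : ∀ x ∈ P, ∑ d ∈ D, chi (pol Q x d) = if ∀ d ∈ D, pol Q x d = 0 then (D.card : ℤ) else 0 := by
      intro x _
      split_ifs with h
      · rw [Finset.sum_congr rfl (g := fun _ => (1 : ℤ)) fun d hd => by rw [h d hd, chi_zero]]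
        simp
      · simp only [not_forall] at h
        obtain ⟨k, hk, hne⟩ := h
        rw [Finset.sum_congr rfl fun d _ => by rw [pcomm x d]]
        exact sum_chi_pol_zero hQ hD hk (by rw [pcomm]; exact eq_one_of_ne_zero hne)
    rw [Finset.sum_congr rfl this, ← Finset.sum_filter]
    simp
  have e2 : ∑ d ∈ D, ∑ x ∈ P, chi (pol Q x d) = (P.card : ℤ) := by
    rw [Finset.sum_eq_single_of_mem (0 : ι → F) hD0 fun d hd hd0 => ?_]
    · simp [pzero_right hQ, chi_zero]
    · obtain ⟨k, hk, hk1⟩ := hnd d hd hd0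
      exact sum_chi_pol_zero hQ hP hk hk1
  rw [Finset.sum_comm, e2] at e1
  exact_mod_cast e1.symm

variable {P : Finset (ι → F)} {K : ℕ} {σ : ℤ}

theorem Space.sum_shift (hP : Space Q P K σ) {c : ι → F} (hc : c ∈ P) :
    ∑ v ∈ P, chi (Q v) * chi (pol Q v c) = chi (Q c) * (σ * K) := by
  rw [← hP.gauss, Finset.mul_sum]
  refine Finset.sum_nbij' (· + c) (· + c) (fun v hv => hP.add v hv c hc) (fun v hv => hP.add v hv c hc)
    (fun v _ => vadd_cancel v c) (fun v _ => vadd_cancel v c) fun v _ => ?_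
  rw [qadd hQ, chi_add, chi_add]
  rcases Two.out (Q c) with h | h <;> simp [h, chi_zero, chi_one]

theorem Space.sum_lin (hP : Space Q P K σ) {c : ι → F} (hc : c ∈ P) (hc0 : c ≠ 0) :
    ∑ v ∈ P, chi (pol Q v c) = 0 := by
  obtain ⟨k, hk, hk1⟩ := hP.nd c hc hc0
  exact sum_chi_pol_zero hQ hP.add hk hk1

/-- Vectors of a given value. -/
theorem Space.count0 (hP : Space Q P K σ) (ε : F) :
    2 * ((P.filter fun v => Q v = ε).card : ℤ) = (K : ℤ) * K + chi ε * (σ * K) := by
  have e : 2 * ((P.filter fun v => Q v = ε).card : ℤ) = ∑ v ∈ P, (1 + chi (Q v) * chi ε) := by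
    rw [← Finset.sum_boole (R := ℤ), Finset.mul_sum]
    exact Finset.sum_congr rfl fun v _ => two_mul_ind _ _
  rw [e, Finset.sum_add_distrib, ← Finset.sum_mul, hP.gauss, Finset.sum_const, hP.card]
  push_cast
  ring

/-- Vectors of a given value on an affine hyperplane. -/
theorem Space.count1 (hP : Space Q P K σ) {p : ι → F} (hp : p ∈ P) (hp0 : p ≠ 0) (ε α : F) :
    4 * ((P.filter fun v => Q v = ε ∧ pol Q v p = α).card : ℤ) =
      (K : ℤ) * K + chi ε * (σ * K) * (1 + chi α * chi (Q p)) := by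
  have e : 4 * ((P.filter fun v => Q v = ε ∧ pol Q v p = α).card : ℤ) =
      ∑ v ∈ P, (1 + chi (Q v) * chi ε + chi (pol Q v p) * chi α +
        chi (Q v) * chi (pol Q v p) * (chi ε * chi α)) := by
    rw [← Finset.sum_boole (R := ℤ), Finset.mul_sum]
    refine Finset.sum_congr rfl fun v _ => ?_
    rw [show (if Q v = ε ∧ pol Q v p = α then (1 : ℤ) else 0) =
      (if Q v = ε then 1 else 0) * (if pol Q v p = α then 1 else 0) by split_ifs <;> simp_all]
    have h1 := two_mul_ind (Q v) ε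
    have h2 := two_mul_ind (pol Q v p) α
    linear_combination (2 * (if pol Q v p = α then (1 : ℤ) else 0)) * h1 + (1 + chi (Q v) * chi ε) * h2
  rw [e]
  simp only [Finset.sum_add_distrib, ← Finset.sum_mul, hP.gauss, hP.sum_shift hQ hp, hP.sum_lin hQ hp hp0,
    Finset.sum_const, hP.card, nsmul_eq_mul, mul_one]
  push_cast
  ring

/-- Vectors of a given value on an affine subspace of codimension two. -/
theorem Space.count2 (hP : Space Q P K σ) {p r : ι → F} (hp : p ∈ P) (hr : r ∈ P) (hp0 : p ≠ 0) (hr0 : r ≠ 0)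
    (hpr : p ≠ r) (ε α β : F) :
    8 * ((P.filter fun v => Q v = ε ∧ pol Q v p = α ∧ pol Q v r = β).card : ℤ) =
      (K : ℤ) * K + chi ε * (σ * K) *
        (1 + chi α * chi (Q p) + chi β * chi (Q r) + chi α * chi β * chi (Q (p + r))) := by
  have e : 8 * ((P.filter fun v => Q v = ε ∧ pol Q v p = α ∧ pol Q v r = β).card : ℤ) =
      ∑ v ∈ P, (1 + chi (Q v) * chi ε + chi (pol Q v p) * chi α + chi (pol Q v r) * chi β +
        chi (pol Q v (p + r)) * (chi α * chi β) + chi (Q v) * chi (pol Q v p) * (chi ε * chi α) +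
        chi (Q v) * chi (pol Q v r) * (chi ε * chi β) +
        chi (Q v) * chi (pol Q v (p + r)) * (chi ε * chi α * chi β)) := by
    rw [← Finset.sum_boole (R := ℤ), Finset.mul_sum]
    refine Finset.sum_congr rfl fun v _ => ?_
    rw [show (if Q v = ε ∧ pol Q v p = α ∧ pol Q v r = β then (1 : ℤ) else 0) =
      (if Q v = ε then 1 else 0) * (if pol Q v p = α then 1 else 0) * (if pol Q v r = β then 1 else 0) by
      split_ifs <;> simp_all, padd_right hQ, chi_add]
    have h1 := two_mul_ind (Q v) ε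
    have h2 := two_mul_ind (pol Q v p) α
    have h3 := two_mul_ind (pol Q v r) β
    linear_combination (4 * (if pol Q v p = α then (1 : ℤ) else 0) * (if pol Q v r = β then 1 else 0)) * h1 +
      (2 * (1 + chi (Q v) * chi ε) * (if pol Q v r = β then 1 else 0)) * h2 +
      ((1 + chi (Q v) * chi ε) * (1 + chi (pol Q v p) * chi α)) * h3
  have hpr0 : p + r ≠ 0 := fun h => hpr (eq_of_vadd_eq_zero h)
  rw [e]
  simp only [Finset.sum_add_distrib, ← Finset.sum_mul, hP.gauss, hP.sum_shift hQ hp, hP.sum_shift hQ hr,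
    hP.sum_shift hQ (hP.add p hp r hr), hP.sum_lin hQ hp hp0, hP.sum_lin hQ hr hr0,
    hP.sum_lin hQ (hP.add p hp r hr) hpr0, Finset.sum_const, hP.card, nsmul_eq_mul, mul_one]
  push_cast
  ring

/-- A singular vector with prescribed products, avoiding three given vectors. -/
theorem Space.exists_sing (hP : Space Q P K σ) {p r : ι → F} (hp : p ∈ P) (hr : r ∈ P) (hp0 : p ≠ 0)
    (hr0 : r ≠ 0) (hpr : p ≠ r) (α β : F) (T : Finset (ι → F))
    (hT : T.card ≤ 3) : ∃ v ∈ P, v ∉ T ∧ Q v = 0 ∧ pol Q v p = α ∧ pol Q v r = β := by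
  have h := hP.count2 hQ hp hr hp0 hr0 hpr 0 α β
  have hb := hP.big
  have h1 := chi_bounds (Q p)
  have h2 := chi_bounds (Q r)
  have h3 := chi_bounds (Q (p + r))
  rw [chi_zero, one_mul] at h
  have hlt : T.card < (P.filter fun v => Q v = 0 ∧ pol Q v p = α ∧ pol Q v r = β).card := by
    have hK : (8 : ℤ) ≤ K := by exact_mod_cast hb
    have hT' : (T.card : ℤ) ≤ 3 := by exact_mod_cast hT
    suffices (T.card : ℤ) < ((P.filter fun v => Q v = 0 ∧ pol Q v p = α ∧ pol Q v r = β).card : ℤ) by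
      exact_mod_cast this
    rcases hP.sign with rfl | rfl <;> rcases Two.out α with rfl | rfl <;> rcases Two.out β with rfl | rfl <;>
      simp only [chi_zero, chi_one] at h <;> nlinarith
  obtain ⟨v, hv, hvT⟩ := Finset.exists_mem_notMem_of_card_lt_card hlt
  obtain ⟨hvP, h'⟩ := Finset.mem_filter.1 hv
  exact ⟨v, hvP, hvT, h'⟩

end CfsgLib.PGroup.OrthTwoIndex
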