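import Cfsg.Agent.Lib.PGroup.OrthTwoIndex.Bound
import Cfsg.Agent.Lib.PGroup.OrthIndex.Torus

/-!
An orthogonal group of plus type over the field with two elements fixes every point of a set with fewer
points than there are nonsingular vectors.
-/

set_option autoImplicit false
set_option linter.unusedSectionVars false

namespace CfsgLib.PGroup.OrthTwoIndex

open scoped Matrix
open Matrix Cfsg.Geo CfsgLib.Perm.Trans CfsgLib.Perm.Trans.Quad CfsgLib.PGroup.OrthIndex
open scoped _root_.Classical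

variable {ι : Type} [Fintype ι] [DecidableEq ι] {F : Type*} [Field F] [Fintype F] [Two F]
variable {Q : (ι → F) → F}

local notation "pol" => QuadraticMap.polar

variable (hQ : IsNondegenerateQuadraticForm Q)
include hQ
variable {X : Type*} [MulAction ↥(eGroup Q) X]

omit hQ in
theorem psi_eq_one {a : F} : psi F a = 1 ↔ a = 0 :=
  ⟨fun h => psi_separates fun c => by
    rcases Two.out c with rfl | rfl
    · rw [mul_zero, AddChar.map_zero_eq_one]
    · rw [mul_one, h], fun h => by rw [h, AddChar.map_zero_eq_one]⟩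

theorem el_inv {z a : ι → F} (hz : Q z = 0) (ha : pol Q z a = 0) : (el hQ z a)⁻¹ = el hQ z a := by
  rw [← el_neg hQ hz ha, show -a = a from funext fun i => CharTwo.neg_eq (a i)]

theorem vsub (a b : ι → F) : a - b = a + b := funext fun i => CharTwo.sub_eq_add (a i) (b i)

variable {hQ}

theorem _root_.CfsgLib.PGroup.OrthIndex.Triv.map_two {x : X} {z : ι → F} (g : ↥(eGroup Q)) (hz : Q z = 0)
    (h : Triv hQ x z) : Triv hQ (g • x) (act g z) := fun a ha => by
  have h1 := ha.map g⁻¹ (by rw [Q_act (Q := Q), hz])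
  rw [inv_smul_smul, act_inv_act] at h1
  obtain ⟨k, hk⟩ := h _ h1
  exact ⟨k, by rw [← act_smul, ← hk, act_act_inv]⟩

variable (hQ) [Fintype X] {K : ℕ} {σ : ℤ}

/-- The dual of a point, as a finite set. -/
noncomputable def dset (Φ : Frame Q) (x : X) : Finset (ι → F) :=
  (wset hQ Φ).filter fun u => u ∈ Φ.dual hQ x

theorem mem_dset {Φ : Frame Q} {x : X} {u : ι → F} : u ∈ dset hQ Φ x ↔ u ∈ Φ.dual hQ x := by
  simp only [dset, Finset.mem_filter, mem_wset]
  exact ⟨fun h => h.2, fun h => ⟨Φ.dual_mem hQ h, h⟩⟩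

theorem coe_dset (Φ : Frame Q) (x : X) : (dset hQ Φ x : Set (ι → F)) = Φ.dual hQ x :=
  Set.ext fun _ => mem_dset hQ

theorem ncard_dual (Φ : Frame Q) (x : X) : (Φ.dual hQ x).ncard = (dset hQ Φ x).card := by
  rw [← coe_dset, Set.ncard_coe_finset]

theorem levi_Levi (Φ : Frame Q) {g : ↥(eGroup Q)} (hg : g ∈ levi hQ Φ) : Φ.Levi hQ g 1 :=
  ⟨inner_mono hQ (Φ.W_le hQ) hg, one_ne_zero, by rw [one_smul]; exact levi_fix hQ Φ hg⟩

/-- The conjugates of the dual of a point inside an invariant set give many points. -/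
theorem fam_points (Φ : Frame Q) (x : X) {Ω : Set X}
    (hΩ : ∀ g c, Φ.Levi hQ g c → ∀ a ∈ Φ.W hQ, el hQ Φ.e a • g • x ∈ Ω) :
    (fam hQ Φ (dset hQ Φ x)).card * (dset hQ Φ x).card ≤ Ω.ncard := by
  refine le_trans (Nat.mul_le_mul ?_ (ncard_dual hQ Φ x).ge) (Φ.duals_count hQ (Set.toFinite Ω) x hΩ)
  rw [← Set.ncard_coe_finset]
  refine Set.ncard_le_ncard_of_injOn (fun U : Finset (ι → F) => (U : Set (ι → F))) (fun U hU => ?_)
    Finset.coe_injective.injOn (Set.toFinite _)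
  obtain ⟨g, hg, rfl⟩ := (mem_fam hQ Φ).1 hU
  refine ⟨g, 1, levi_Levi hQ Φ hg, ?_⟩
  rw [(levi_Levi hQ Φ hg).dual x, Finset.coe_image, coe_dset]
  refine Set.image_congr fun u hu => ?_
  rw [Frame.leviMap, inv_one, one_smul, Φ.proj_of_mem hQ (inner_maps hQ hg (Φ.dual_mem hQ hu))]

theorem dset_one {Φ : Frame Q} (hP : Φ.P = ⊤) {x : X} (h : (dset hQ Φ x).card = 1) : Full hQ x Φ.e :=
  Φ.full_of_W hQ hP fun a ha => Φ.fix_of_dual hQ ha fun u hu => by
    have h1 := Finset.card_le_one.1 h.le u ((mem_dset hQ).2 hu) 0 ((mem_dset hQ).2 (Φ.zero_mem_dual hQ x))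
    rw [h1, pzero_right hQ, AddChar.map_zero_eq_one]

theorem dset_two {Φ : Frame Q} {x : X} (h : (dset hQ Φ x).card = 2) :
    ∃ a ∈ Φ.W hQ, a ≠ 0 ∧ ∀ b ∈ Φ.W hQ, (el hQ Φ.e b • x = x ↔ pol Q b a = 0) := by
  obtain ⟨a, ha, ha0⟩ := Finset.exists_mem_ne (by omega : 1 < (dset hQ Φ x).card) (0 : ι → F)
  rw [mem_dset] at ha
  refine ⟨a, Φ.dual_mem hQ ha, ha0, fun b hb => ⟨fun hfix => psi_eq_one.1 (ha.2 b hb hfix), fun hab => ?_⟩⟩
  refine Φ.fix_of_dual hQ hb fun u hu => psi_eq_one.2 ?_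
  have hsub : ({0, a} : Finset (ι → F)) = dset hQ Φ x := by
    refine Finset.eq_of_subset_of_card_le (fun v hv => ?_) (by rw [h, Finset.card_pair (Ne.symm ha0)])
    simp only [Finset.mem_insert, Finset.mem_singleton] at hv
    rcases hv with rfl | rfl
    exacts [(mem_dset hQ).2 (Φ.zero_mem_dual hQ x), (mem_dset hQ).2 ha]
  have hu' := (mem_dset hQ).2 hu
  rw [← hsub, Finset.mem_insert, Finset.mem_singleton] at hu'
  rcases hu' with rfl | rfl
  exacts [pzero_right hQ b, hab]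

theorem dset_all {Φ : Frame Q} (hP : Φ.P = ⊤) (hW : Space Q (wset hQ Φ) K σ) {x : X}
    (h : (dset hQ Φ x).card = K * K) : Triv hQ x Φ.e := by
  have hall : dset hQ Φ x = wset hQ Φ :=
    Finset.eq_of_subset_of_card_le (Finset.filter_subset _ _) (by rw [h, hW.card])
  intro a ha
  have ha' := Φ.proj_mem hQ (by rw [hP]; exact Submodule.mem_top) (by rw [pcomm, ha.1] : pol Q a Φ.e = 0)
  have h0 : Φ.proj a = 0 := by
    by_contra hne
    obtain ⟨u, hu, hu1⟩ := hW.nd _ ((mem_wset hQ Φ).2 ha') hne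
    rw [← hall, mem_dset] at hu
    have := psi_eq_one.1 (hu.2 _ ha' (by rw [Φ.el_proj hQ ha.1]; exact ha.2))
    rw [pcomm, hu1] at this
    exact one_ne_zero this
  exact ⟨pol Q a Φ.f, sub_eq_zero.1 h0⟩

section

variable (hV : Space Q (Finset.univ : Finset (ι → F)) (2 * K) σ) (hK : 8 ≤ K)
  (hn : 6 ≤ Fintype.card ι) (hlt : Fintype.card X + K < 2 * (K * K))
  (hfam : ∀ (Φ : Frame Q) (D : Finset (ι → F)), Φ.P = ⊤ → Data hQ Φ (K := K) D →
    Fintype.card X < (fam hQ Φ D).card * D.card)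
include hV hK hn hlt hfam

theorem card_dset {Φ : Frame Q} (hP : Φ.P = ⊤) (x : X) :
    (dset hQ Φ x).card = 1 ∨ (dset hQ Φ x).card = 2 ∨ (dset hQ Φ x).card = K * K := by
  have hW := space_W hQ Φ hP (by omega) hV
  have h1 : 1 ≤ (dset hQ Φ x).card := Finset.card_pos.2 ⟨0, (mem_dset hQ).2 (Φ.zero_mem_dual hQ x)⟩
  have h2 : (dset hQ Φ x).card ≤ K * K := hW.card ▸ Finset.card_le_card (Finset.filter_subset _ _)
  by_contra hcon
  simp only [not_or] at hcon
  have hb := hfam Φ (dset hQ Φ x) hP ⟨Finset.filter_subset _ _,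
    (mem_dset hQ).2 (Φ.zero_mem_dual hQ x),
    fun u hu w hw => (mem_dset hQ).2 (Φ.add_mem_dual hQ ((mem_dset hQ).1 hu) ((mem_dset hQ).1 hw)),
    by omega, by omega⟩
  have hc := fam_points hQ Φ x (Ω := Set.univ) fun _ _ _ _ _ => Set.mem_univ _
  rw [Set.ncard_univ, Nat.card_eq_fintype_card] at hc
  omega

omit hK hfam in
theorem orbit_triv {Φ : Frame Q} (hP : Φ.P = ⊤) {x : X} (h : Triv hQ x Φ.e) :
    Set.InjOn (fun a => el hQ Φ.e a • x) (Φ.W hQ : Set (ι → F)) := fun a ha b hb hab => by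
  have he : pol Q Φ.e (a + b) = 0 := Φ.pol_e hQ ((Φ.W hQ).add_mem ha hb)
  have hfix : el hQ Φ.e (a + b) • x = x := by
    have hab' : el hQ Φ.e a • x = el hQ Φ.e b • x := hab
    rw [el_add hQ Φ.hQe (Φ.pol_e hQ ha) (Φ.pol_e hQ hb), mul_smul, ← hab',
      smul_smul, ← el_add hQ Φ.hQe (Φ.pol_e hQ ha) (Φ.pol_e hQ ha), vadd_self, el_zero hQ Φ.hQe, one_smul]
  obtain ⟨k, hk⟩ := h _ ⟨he, hfix⟩
  by_contra hne
  exact Φ.not_line hQ ((Φ.W hQ).add_mem ha hb) (fun h0 => hne (eq_of_vadd_eq_zero h0)) k hk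

omit hK hfam in
/-- The regular points at a centre form a single orbit. -/
theorem card_triv (hK : 8 ≤ K) {Φ : Frame Q} (hP : Φ.P = ⊤) {y : X} (hy : Triv hQ y Φ.e) :
    (Finset.univ.filter fun p : X => Triv hQ p Φ.e).card = K * K := by
  have hW := space_W hQ Φ hP hK hV
  have horb : ∀ w : X, Triv hQ w Φ.e → ((wset hQ Φ).image fun a => el hQ Φ.e a • w).card = K * K :=
    fun w hw => by
      rw [Finset.card_image_of_injOn, hW.card]
      exact (orbit_triv hQ hV hn hlt hP hw).mono fun a ha => (mem_wset hQ Φ).1 ha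
  rw [← horb y hy]
  congr 1
  ext p
  rw [Finset.mem_filter_univ, Finset.mem_image]
  constructor
  · intro hp
    obtain ⟨q, hq⟩ : ((wset hQ Φ).image (fun a => el hQ Φ.e a • y) ∩
        (wset hQ Φ).image fun a => el hQ Φ.e a • p).Nonempty := by
      rw [Finset.nonempty_iff_ne_empty]
      intro hempty
      have h1 := Finset.card_le_univ ((wset hQ Φ).image (fun a => el hQ Φ.e a • y) ∪
        (wset hQ Φ).image fun a => el hQ Φ.e a • p)
      rw [Finset.card_union, hempty, Finset.card_empty, Nat.sub_zero, horb y hy, horb p hp] at h1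
      omega
    obtain ⟨hq1, hq2⟩ := Finset.mem_inter.1 hq
    obtain ⟨b, hb, rfl⟩ := Finset.mem_image.1 hq1
    obtain ⟨c, hc, hcb⟩ := Finset.mem_image.1 hq2
    rw [mem_wset] at hb hc
    refine ⟨c + b, (mem_wset hQ Φ).2 ((Φ.W hQ).add_mem hc hb), ?_⟩
    rw [el_add hQ Φ.hQe (Φ.pol_e hQ hc) (Φ.pol_e hQ hb), mul_smul, ← hcb,
      smul_smul, ← el_add hQ Φ.hQe (Φ.pol_e hQ hc) (Φ.pol_e hQ hc), vadd_self, el_zero hQ Φ.hQe, one_smul]
  · rintro ⟨b, hb, rfl⟩
    rw [mem_wset] at hb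
    have := hy.map_two (el hQ Φ.e b) Φ.hQe
    rwa [act_el hQ Φ.hQe (Φ.pol_e hQ hb), pol_self_singular hQ Φ.hQe, Φ.pol_e hQ hb, mul_zero,
      zero_smul, zero_smul, add_zero, sub_zero, sub_zero] at this

/-- A regular orbit and an orbit of length two at the same centre. -/
theorem mix_count {Φ : Frame Q} (hP : Φ.P = ⊤) {x y : X} (h : (dset hQ Φ x).card = 2) (hy : Triv hQ y Φ.e) :
    ∃ ε : F, K * K + 2 * (cls hQ Φ ε).card ≤ Fintype.card X := by
  have hW := space_W hQ Φ hP (by omega) hV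
  set O := (wset hQ Φ).image fun a => el hQ Φ.e a • y with hO
  have hOc : O.card = K * K := by
    rw [hO, Finset.card_image_of_injOn, hW.card]
    exact (orbit_triv hQ hV hn hlt hP hy).mono fun a ha => (mem_wset hQ Φ).1 ha
  set Ω := {w : X | (Φ.dual hQ w).ncard = 2} with hΩ
  have hc := fam_points hQ Φ x (Ω := Ω) fun g c hg a ha => by
    show (Φ.dual hQ (el hQ Φ.e a • g • x)).ncard = 2
    rw [Frame.dual_el hQ Φ ha, hg.dual_ncard, ncard_dual, h]
  rw [h] at hc
  -- the conjugates of a line are the lines of a class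
  obtain ⟨a, ha, ha0⟩ := Finset.exists_mem_ne (by omega : 1 < (dset hQ Φ x).card) (0 : ι → F)
  have haW : a ∈ wset hQ Φ := Finset.filter_subset _ _ ha
  have hsub : ({0, a} : Finset (ι → F)) = dset hQ Φ x := by
    refine Finset.eq_of_subset_of_card_le (fun v hv => ?_) (by rw [h, Finset.card_pair (Ne.symm ha0)])
    simp only [Finset.mem_insert, Finset.mem_singleton] at hv
    rcases hv with rfl | rfl
    exacts [(mem_dset hQ).2 (Φ.zero_mem_dual hQ x), ha]
  have hM : (cls hQ Φ (Q a)).card ≤ (fam hQ Φ (dset hQ Φ x)).card := by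
    refine Finset.card_le_card_of_injOn (fun v => ({0, v} : Finset (ι → F))) (fun v hv => ?_) ?_
    · obtain ⟨hvW, hv0, hvQ⟩ := (mem_cls hQ Φ).1 hv
      obtain ⟨g', hg', hga⟩ := levi_trans hQ Φ hW haW hvW ha0 hv0 hvQ.symm
      refine (mem_fam hQ Φ).2 ⟨g', hg', ?_⟩
      rw [← hsub, Finset.image_insert, Finset.image_singleton, act_zero, hga]
    · intro v hv w hw hvw
      have h1 : v ∈ ({0, w} : Finset (ι → F)) := by
        have : v ∈ ({0, v} : Finset (ι → F)) := by simp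
        exact (show ({0, v} : Finset (ι → F)) = {0, w} from hvw) ▸ this
      simp only [Finset.mem_insert, Finset.mem_singleton] at h1
      exact h1.resolve_left ((mem_cls hQ Φ).1 hv).2.1
  have hdisj : O.card + Ω.ncard ≤ Fintype.card X := by
    rw [Set.ncard_eq_toFinset_card', ← Finset.card_union_of_disjoint (Finset.disjoint_left.2 fun w hw hw' => ?_)]
    · exact Finset.card_le_univ _
    obtain ⟨b, hb, rfl⟩ := Finset.mem_image.1 hw
    rw [Set.mem_toFinset] at hw'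
    have hb' := (mem_wset hQ Φ).1 hb
    change (Φ.dual hQ (el hQ Φ.e b • y)).ncard = 2 at hw'
    rw [Frame.dual_el hQ Φ hb', ncard_dual] at hw'
    obtain ⟨c, hcW, hc0, hfix⟩ := dset_two hQ hw'
    obtain ⟨s, hs, hs0, -, hsc, -⟩ : ∃ s ∈ wset hQ Φ, s ≠ 0 ∧ True ∧ pol Q s c = 0 ∧ True := by
      have hc1 := hW.count1 hQ ((mem_wset hQ Φ).2 hcW) hc0 1 0
      have hK8 : (8 : ℤ) ≤ K := by exact_mod_cast hW.big
      have hcb := chi_bounds (Q c)
      obtain ⟨s, hs⟩ : ((wset hQ Φ).filter fun v => Q v = 1 ∧ pol Q v c = 0).Nonempty := by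
        refine Finset.card_pos.1 ?_
        suffices (0 : ℤ) < (((wset hQ Φ).filter fun v => Q v = 1 ∧ pol Q v c = 0).card : ℤ) by
          exact_mod_cast this
        rw [chi_one, chi_zero] at hc1
        rcases hW.sign with rfl | rfl <;> nlinarith
      obtain ⟨h1, h2, h3⟩ := Finset.mem_filter.1 hs
      exact ⟨s, h1, fun h0 => by rw [h0, qzero hQ] at h2; exact zero_ne_one h2, trivial, h3, trivial⟩
    have hs' := (mem_wset hQ Φ).1 hs
    obtain ⟨k, hk⟩ := hy s ⟨Φ.pol_e hQ hs', (hfix s hs').2 hsc⟩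
    exact Φ.not_line hQ hs' hs0 k hk
  refine ⟨Q a, ?_⟩
  rw [hOc] at hdisj
  have := (Nat.mul_le_mul_right 2 hM).trans hc
  omega

variable (hmix : ∀ (Φ : Frame Q), Φ.P = ⊤ → ∀ (x y : X), (dset hQ Φ x).card = 2 → Triv hQ y Φ.e → False)

section
include hmix

/-- A regular orbit at some centre leaves no room for orbits of length two. -/
theorem full_or_triv {x₀ : X} {z₀ : ι → F} (hz₀ : Q z₀ = 0) (hz₀' : z₀ ≠ 0) (h₀ : Triv hQ x₀ z₀)
    {z : ι → F} (hz : Q z = 0) (hz' : z ≠ 0) (x : X) : Full hQ x z ∨ Triv hQ x z := by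
  obtain ⟨Φ, hP, rfl⟩ := exists_frame hQ hn hz hz'
  have hW := space_W hQ Φ hP (by omega) hV
  rcases card_dset hQ hV hK hn hlt hfam hP x with h | h | h
  · exact Or.inl (dset_one hQ hP h)
  · exfalso
    obtain ⟨g, hg, hge⟩ := CfsgLib.Perm.Trans.Quad.exists_move hQ (by omega) hz₀' hz' hz₀ hz
    have := h₀.map_two ⟨g, hg⟩ hz₀
    rw [show act (⟨g, hg⟩ : ↥(eGroup Q)) z₀ = Φ.e from hge] at this
    exact hmix Φ hP x _ h this
  · exact Or.inr (dset_all hQ hP hW h)

end

/-- Without regular orbits two moving transformations compose to a fixing one. -/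
theorem line_case (hno : ∀ (x : X) (z : ι → F), Q z = 0 → z ≠ 0 → ¬ Triv hQ x z) (x : X) (z : ι → F)
    (hz : Q z = 0) (hz' : z ≠ 0) : Full hQ x z := by
  have hlin : ∀ z : ι → F, Q z = 0 → z ≠ 0 → ∀ a b, pol Q z a = 0 → pol Q z b = 0 →
      ¬ Star hQ x z a → ¬ Star hQ x z b → Star hQ x z (a + b) := by
    intro z hz hz' a b ha hb hna hnb
    obtain ⟨Φ, hP, rfl⟩ := exists_frame hQ hn hz hz'
    have hW := space_W hQ Φ hP (by omega) hV
    rcases card_dset hQ hV hK hn hlt hfam hP x with h | h | h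
    · exact absurd ⟨ha, dset_one hQ hP h a ha⟩ hna
    · obtain ⟨c, -, -, hfix⟩ := dset_two hQ h
      have hpr : ∀ a, pol Q Φ.e a = 0 → (Star hQ x Φ.e a ↔ pol Q (Φ.proj a) c = 0) := fun a ha => by
        rw [← hfix _ (Φ.proj_mem hQ (by rw [hP]; exact Submodule.mem_top) (by rw [pcomm, ha])),
          Φ.el_proj hQ ha]
        exact ⟨fun h => h.2, fun h => ⟨ha, h⟩⟩
      have hab : pol Q Φ.e (a + b) = 0 := by rw [padd_right hQ, ha, hb, add_zero]
      refine (hpr _ hab).2 ?_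
      have e1 : pol Q (Φ.proj a) c = 1 := eq_one_of_ne_zero fun h => hna ((hpr a ha).2 h)
      have e2 : pol Q (Φ.proj b) c = 1 := eq_one_of_ne_zero fun h => hnb ((hpr b hb).2 h)
      rw [show Φ.proj (a + b) = Φ.proj a + Φ.proj b by
        simp only [Frame.proj, padd_left hQ]; module, padd_left hQ, e1, e2, fadd_self]
    · exact absurd (dset_all hQ hP hW h) (hno x _ hz hz')
  -- a fixed transformation can be removed
  have hshift : ∀ z : ι → F, Q z = 0 → z ≠ 0 → ∀ a b, pol Q z a = 0 → Star hQ x z b →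
      (Star hQ x z (a + b) ↔ Star hQ x z a) := fun z hz hz' a b _ hb =>
    ⟨fun h => by have := h.add hz hb; rwa [vadd_cancel] at this, fun h => h.add hz hb⟩
  obtain ⟨Φ, hP, rfl⟩ := exists_frame hQ hn hz hz'
  have hW := space_W hQ Φ hP (by omega) hV
  rcases card_dset hQ hV hK hn hlt hfam hP x with h | h | h
  · exact dset_one hQ hP h
  · exfalso
    obtain ⟨a, haW, ha0, hfix⟩ := dset_two hQ h
    have ha := (mem_wset hQ Φ).2 haW
    -- w singular and moving, z singular and fixed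
    obtain ⟨p, hp, hpne, hp0, hpa⟩ : ∃ p ∈ wset hQ Φ, p ≠ a ∧ p ≠ 0 ∧ pol Q p a = 1 := by
      obtain ⟨p, hp, hpa⟩ := hW.nd a ha ha0
      exact ⟨p, hp, fun h => by rw [h, pself hQ, two_eq_zero, zero_mul] at hpa; exact zero_ne_one hpa,
        fun h => by rw [h, pzero_left hQ] at hpa; exact zero_ne_one hpa, hpa⟩
    obtain ⟨w, hw, -, hQw, hwa, -⟩ := hW.exists_sing hQ ha hp ha0 hp0 hpne.symm 1 0 ∅ (by simp)
    have hw0 : w ≠ 0 := fun h => by rw [h, pzero_left hQ] at hwa; exact zero_ne_one hwa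
    have hwne : a ≠ w := fun h => by rw [← h, pself hQ, two_eq_zero, zero_mul] at hwa; exact zero_ne_one hwa
    obtain ⟨y, hy, hyT, hQy, hya, hyw⟩ := hW.exists_sing hQ ha hw ha0 hw0 hwne 0 0 {0, a}
      (Finset.card_le_two.trans (by norm_num))
    simp only [Finset.mem_insert, Finset.mem_singleton, not_or] at hyT
    obtain ⟨u, hu, -, hQu, hua, huy⟩ := hW.exists_sing hQ ha hy ha0 hyT.1 (Ne.symm hyT.2) 0 1 ∅ (by simp)
    have hyW := (mem_wset hQ Φ).1 hy
    have hwW := (mem_wset hQ Φ).1 hw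
    have huW := (mem_wset hQ Φ).1 hu
    have hgx : el hQ Φ.e u • x = x := (hfix u huW).2 hua
    have hgy : act (el hQ Φ.e u) y = y + Φ.e := by
      rw [act_el hQ Φ.hQe (Φ.pol_e hQ huW), hQu, Φ.pol_e' hQ hyW, pcomm y u, huy, zero_smul, zero_mul,
        zero_smul, one_smul, add_zero, sub_zero, vsub hQ]
    have hgw : act (el hQ Φ.e u) w = w + pol Q w u • Φ.e := by
      rw [act_el hQ Φ.hQe (Φ.pol_e hQ huW), hQu, Φ.pol_e' hQ hwW, zero_smul, zero_mul, zero_smul,
        add_zero, sub_zero, vsub hQ]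
    have hey : Star hQ x Φ.e y := ⟨Φ.pol_e hQ hyW, (hfix y hyW).2 hya⟩
    have hew : ¬ Star hQ x Φ.e w := fun h => one_ne_zero (hwa.symm.trans ((hfix w hwW).1 h.2))
    have hye : pol Q y Φ.e = 0 := Φ.pol_e' hQ hyW
    have hwe : pol Q w Φ.e = 0 := Φ.pol_e' hQ hwW
    have hye0 : y + Φ.e ≠ 0 := fun h => Φ.not_line hQ hyW hyT.1 1 (by rw [one_smul]; exact eq_of_vadd_eq_zero h)
    have hQye : Q (y + Φ.e) = 0 := by rw [qadd hQ, hQy, Φ.hQe, hye, add_zero, add_zero]
    -- moving is kept by the fixed element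
    have hgg : Star hQ x (y + Φ.e) (w + pol Q w u • Φ.e) ↔ Star hQ x y w := by
      constructor
      · intro h
        have hginv : (el hQ Φ.e u)⁻¹ • x = x := by rw [inv_smul_eq_iff, hgx]
        have := h.map_of_fix hginv hQye
        rwa [← hgy, ← hgw, act_inv_act, act_inv_act] at this
      · intro h
        have := h.map_of_fix hgx hQy
        rwa [hgy, hgw] at this
    have hze : Star hQ x (y + Φ.e) Φ.e := by
      refine Star.swap Φ.hQe hQye (hey.add Φ.hQe ?_)
      have := Star.self (hQ := hQ) Φ.hQe x 1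
      rwa [one_smul] at this
    have hzce : Star hQ x (y + Φ.e) (pol Q w u • Φ.e) := by
      rcases Two.out (pol Q w u) with h | h <;> rw [h]
      · rw [zero_smul]; exact Star.zero hQye x
      · rw [one_smul]; exact hze
    have hpw : pol Q (y + Φ.e) w = 0 := by rw [padd_left hQ, hyw, pcomm, hwe, add_zero]
    rw [hshift _ hQye hye0 w _ hpw hzce] at hgg
    have hwy : pol Q w y = 0 := by rw [pcomm, hyw]
    have hw1 : Star hQ x (y + Φ.e) w ↔ Star hQ x w (y + Φ.e) :=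
      ⟨fun h => h.swap hQye hQw, fun h => h.swap hQw hQye⟩
    have hw2 : Star hQ x y w ↔ Star hQ x w y := ⟨fun h => h.swap hQy hQw, fun h => h.swap hQw hQy⟩
    have hmove : ¬ Star hQ x w Φ.e := fun h => hew (h.swap hQw Φ.hQe)
    rw [hw1, hw2] at hgg
    by_cases hwy' : Star hQ x w y
    · have h1 := hgg.2 hwy'
      have := hwy'.add hQw h1
      rw [← add_assoc, vadd_self, zero_add] at this
      exact hmove this
    · exact hwy' (hgg.1 (hlin w hQw hw0 y Φ.e hwy hwe hwy' hmove))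
  · exact absurd (dset_all hQ hP hW h) (hno x _ hz hz')

include hmix in
/-- A regular orbit is impossible. -/
theorem not_triv (x₀ : X) (z₀ : ι → F) (hz₀ : Q z₀ = 0) (hz₀' : z₀ ≠ 0) : ¬ Triv hQ x₀ z₀ := by
  intro h₀
  have hFT := fun (z : ι → F) (hz : Q z = 0) (hz' : z ≠ 0) (x : X) =>
    full_or_triv hQ hV hK hn hlt hfam hmix hz₀ hz₀' h₀ hz hz' x
  -- neighbours of a regular centre are regular
  have hnb : ∀ (x : X) (z v : ι → F), Q z = 0 → z ≠ 0 → Q v = 0 → v ≠ 0 → v ≠ z → pol Q z v = 0 →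
      Triv hQ x z → Triv hQ x v := fun x z v hz hz' hv hv' hne hzv h => (hFT v hv hv' x).resolve_left fun hfull => by
    obtain ⟨k, hk⟩ := h v ((hfull.star (by rw [pcomm]; exact hzv)).swap hv hz)
    rcases Two.out k with rfl | rfl
    · exact hv' (by rw [hk, zero_smul])
    · exact hne (by rw [hk, one_smul])
  have hall : ∀ (x : X) (z v : ι → F), Q z = 0 → z ≠ 0 → Q v = 0 → v ≠ 0 → Triv hQ x z → Triv hQ x v := by
    intro x z v hz hz' hv hv' h
    rcases eq_or_ne v z with rfl | hne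
    · exact h
    obtain ⟨s, -, hs, hsQ, hsz, hsv⟩ := hV.exists_sing hQ (Finset.mem_univ z) (Finset.mem_univ v) hz' hv'
      hne.symm 0 0 {0, z, v} Finset.card_le_three
    simp only [Finset.mem_insert, Finset.mem_singleton, not_or] at hs
    exact hnb x s v hsQ hs.1 hv hv' (Ne.symm hs.2.2) hsv
      (hnb x z s hz hz' hsQ hs.1 hs.2.1 (by rw [pcomm, hsz]) h)
  obtain ⟨Φ, hP, hΦe⟩ := exists_frame hQ hn hz₀ hz₀'
  subst hΦe
  have hW := space_W hQ Φ hP (by omega) hV
  set O := (wset hQ Φ).image fun a => el hQ Φ.e a • x₀ with hO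
  have hOc : O.card = K * K := by
    rw [hO, Finset.card_image_of_injOn, hW.card]
    exact (orbit_triv hQ hV hn hlt hP h₀).mono fun a ha => (mem_wset hQ Φ).1 ha
  have hone : ∀ y : X, Triv hQ y Φ.e → ∃ b ∈ Φ.W hQ, y = el hQ Φ.e b • x₀ := by
    intro y hy
    set O' := (wset hQ Φ).image fun a => el hQ Φ.e a • y with hO'
    have hO'c : O'.card = K * K := by
      rw [hO', Finset.card_image_of_injOn, hW.card]
      exact (orbit_triv hQ hV hn hlt hP hy).mono fun a ha => (mem_wset hQ Φ).1 ha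
    obtain ⟨p, hp⟩ : (O ∩ O').Nonempty := by
      rw [Finset.nonempty_iff_ne_empty]
      intro hempty
      have h1 := Finset.card_le_univ (O ∪ O')
      rw [Finset.card_union, hempty, Finset.card_empty, Nat.sub_zero, hOc, hO'c] at h1
      omega
    obtain ⟨hp1, hp2⟩ := Finset.mem_inter.1 hp
    obtain ⟨b, hb, rfl⟩ := Finset.mem_image.1 hp1
    obtain ⟨c, hc, hcb⟩ := Finset.mem_image.1 hp2
    rw [mem_wset] at hb hc
    refine ⟨c + b, (Φ.W hQ).add_mem hc hb, ?_⟩
    rw [el_add hQ Φ.hQe (Φ.pol_e hQ hc) (Φ.pol_e hQ hb), mul_smul, ← hcb,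
      smul_smul, ← el_add hQ Φ.hQe (Φ.pol_e hQ hc) (Φ.pol_e hQ hc), vadd_self, el_zero hQ Φ.hQe, one_smul]
  -- the element h = el v u
  obtain ⟨c0, hc0⟩ : (cls hQ Φ 1).Nonempty := by
    refine Finset.card_pos.1 ?_
    have := card_cls_one hQ Φ hW
    have hK8 : (8 : ℤ) ≤ K := by exact_mod_cast hW.big
    suffices (0 : ℤ) < ((cls hQ Φ 1).card : ℤ) by exact_mod_cast this
    rcases hW.sign with rfl | rfl <;> nlinarith
  obtain ⟨huW', hu0, hQu⟩ := (mem_cls hQ Φ).1 hc0
  obtain ⟨p, hp, hpne, hp0, hpu⟩ : ∃ p ∈ wset hQ Φ, p ≠ c0 ∧ p ≠ 0 ∧ pol Q p c0 = 1 := by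
    obtain ⟨p, hp, hpa⟩ := hW.nd c0 huW' hu0
    exact ⟨p, hp, fun h => by rw [h, pself hQ, two_eq_zero, zero_mul] at hpa; exact zero_ne_one hpa,
      fun h => by rw [h, pzero_left hQ] at hpa; exact zero_ne_one hpa, hpa⟩
  obtain ⟨v, hvW', -, hQv, hvu, hvp⟩ := hW.exists_sing hQ huW' hp hu0 hp0 hpne.symm 0 1 ∅ (by simp)
  set u := c0 with hudef
  have hv0 : v ≠ 0 := fun h => by rw [h, pzero_left hQ] at hvp; exact zero_ne_one hvp
  have huv : u ≠ v := fun h => zero_ne_one (α := F) (hQv.symm.trans (h ▸ hQu))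
  have huW := (mem_wset hQ Φ).1 huW'
  have hvW := (mem_wset hQ Φ).1 hvW'
  set h := el hQ v u with hh
  have hact : ∀ x, act h x = x + pol Q x v • u + (pol Q x u + pol Q x v) • v := fun x => by
    rw [hh, act_el hQ hQv hvu, hQu, one_mul, vsub hQ, vsub hQ, add_smul, add_assoc]
  have hhe : act h Φ.e = Φ.e := by
    rw [hact, Φ.pol_e hQ hvW, Φ.pol_e hQ huW, add_zero, zero_smul, zero_smul, add_zero, add_zero]
  have hmapsW : ∀ w ∈ Φ.W hQ, act h w ∈ Φ.W hQ := fun w hw => by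
    rw [hact]
    exact (Φ.W hQ).add_mem ((Φ.W hQ).add_mem hw ((Φ.W hQ).smul_mem _ huW)) ((Φ.W hQ).smul_mem _ hvW)
  have hconj : ∀ w ∈ Φ.W hQ, h * el hQ Φ.e w = el hQ Φ.e (act h w) * h := fun w hw => by
    have := el_conj hQ h Φ.hQe (Φ.pol_e hQ hw)
    rw [hhe] at this
    rw [← this, inv_mul_cancel_right]
  obtain ⟨y, hyW, hy⟩ := hone (h • x₀) (by
    have := h₀.map_two h Φ.hQe
    rwa [hhe] at this)
  have hval : ∀ a ∈ Φ.W hQ, ∀ b ∈ Φ.W hQ, el hQ Φ.e a • x₀ = el hQ Φ.e b • x₀ → a = b := fun a ha b hb e =>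
    orbit_triv hQ hV hn hlt hP h₀ ha hb e
  -- y is orthogonal to u and v
  have hhy : act h y = y := by
    have h1 : h • h • x₀ = x₀ := by
      rw [smul_smul, hh, ← el_add hQ hQv hvu hvu, vadd_self, el_zero hQ hQv, one_smul]
    rw [hy, smul_smul, hconj y hyW, mul_smul, hy, smul_smul,
      ← el_add hQ Φ.hQe (Φ.pol_e hQ (hmapsW y hyW)) (Φ.pol_e hQ hyW)] at h1
    have := hval _ ((Φ.W hQ).add_mem (hmapsW y hyW) hyW) 0 (Φ.W hQ).zero_mem
      (by rw [h1, el_zero hQ Φ.hQe, one_smul])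
    exact eq_of_vadd_eq_zero this
  have hspan : ∀ α β : F, α • u + β • v = 0 → α = 0 ∧ β = 0 := by
    intro α β h
    rcases Two.out α with rfl | rfl <;> rcases Two.out β with rfl | rfl <;> simp at h
    · exact ⟨rfl, rfl⟩
    · exact absurd h hv0
    · exact absurd h hu0
    · exact absurd (eq_of_vadd_eq_zero h) huv
  have hyuv : pol Q y u = 0 ∧ pol Q y v = 0 := by
    rw [hact, add_assoc, add_eq_left] at hhy
    obtain ⟨h1, h2⟩ := hspan _ _ hhy
    exact ⟨by rwa [h1, add_zero] at h2, h1⟩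
  have horth : ∀ b ∈ Φ.W hQ, Q b = 1 → pol Q b u = 0 → pol Q b v = 0 → pol Q y b = 0 := by
    intro b hb hQb hbu hbv
    by_contra hyb
    have hyb1 := eq_one_of_ne_zero hyb
    have hQs : Q (b + u) = 0 := by rw [qadd hQ, hQb, hQu, hbu, add_zero, fadd_self]
    have hsu : pol Q (b + u) u = 0 := by rw [padd_left hQ, hbu, pself hQ, two_eq_zero, zero_mul, add_zero]
    set g := el hQ (b + u) u with hg
    have hgact : ∀ x, act g x = x + pol Q x b • b + pol Q x u • u := fun x => by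
      rw [hg, act_el hQ hQs hsu, hQu, one_mul, vsub hQ, vsub hQ, padd_right hQ]
      have h2 := two_eq_zero (F := F)
      match_scalars <;> grind
    have hge : act g Φ.e = Φ.e := by
      rw [hgact, Φ.pol_e hQ hb, Φ.pol_e hQ huW, zero_smul, zero_smul, add_zero, add_zero]
    have hgv : act g v = v := by
      rw [hgact, pcomm v b, hbv, hvu, zero_smul, zero_smul, add_zero, add_zero]
    have hgu : act g u = u := by
      rw [hgact, pcomm u b, hbu, pself hQ, two_eq_zero, zero_mul, zero_smul, zero_smul, add_zero, add_zero]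
    have hgh : g * h = h * g := by
      have := el_conj hQ g hQv hvu
      rw [hgv, hgu] at this
      calc g * h = g * h * g⁻¹ * g := by rw [inv_mul_cancel_right]
        _ = h * g := by rw [hh, this]
    have hgW : ∀ w ∈ Φ.W hQ, act g w ∈ Φ.W hQ := fun w hw => by
      rw [hgact]
      exact (Φ.W hQ).add_mem ((Φ.W hQ).add_mem hw ((Φ.W hQ).smul_mem _ hb)) ((Φ.W hQ).smul_mem _ huW)
    have hgconj : ∀ w ∈ Φ.W hQ, g * el hQ Φ.e w = el hQ Φ.e (act g w) * g := fun w hw => by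
      have := el_conj hQ g Φ.hQe (Φ.pol_e hQ hw)
      rw [hge] at this
      rw [← this, inv_mul_cancel_right]
    obtain ⟨z, hzW, hz⟩ := hone (g • x₀) (by
      have := h₀.map_two g Φ.hQe
      rwa [hge] at this)
    have e : el hQ Φ.e (act g y + z) • x₀ = el hQ Φ.e (act h z + y) • x₀ := by
      rw [el_add hQ Φ.hQe (Φ.pol_e hQ (hgW y hyW)) (Φ.pol_e hQ hzW),
        el_add hQ Φ.hQe (Φ.pol_e hQ (hmapsW z hzW)) (Φ.pol_e hQ hyW), mul_smul, mul_smul, ← hz, ← hy,
        smul_smul, smul_smul, ← hgconj y hyW, ← hconj z hzW, mul_smul, mul_smul, ← hy, ← hz, smul_smul,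
        smul_smul, hgh]
    have e2 := hval _ ((Φ.W hQ).add_mem (hgW y hyW) hzW) _ ((Φ.W hQ).add_mem (hmapsW z hzW) hyW) e
    have e4 : b = pol Q z v • u + (pol Q z u + pol Q z v) • v := by
      rw [hgact, hyb1, hyuv.1, hact, one_smul, zero_smul, add_zero] at e2
      refine add_left_cancel (a := y + z) ((Eq.trans ?_ e2).trans ?_) <;> abel
    rw [e4, padd_right hQ, psmul_right hQ, psmul_right hQ, hyuv.1, hyuv.2, mul_zero, mul_zero,
      add_zero] at hyb1
    exact zero_ne_one hyb1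
  -- hence y is in the span of u and v
  obtain ⟨α, β, hyspan⟩ : ∃ α β : F, y = α • u + β • v := by
    set D : Finset (ι → F) := (Finset.univ : Finset (F × F)).image fun p => p.1 • u + p.2 • v with hDdef
    have hmemD : ∀ α β : F, α • u + β • v ∈ D := fun α β => Finset.mem_image.2 ⟨(α, β), Finset.mem_univ _, rfl⟩
    have hDW : ∀ d ∈ D, d ∈ wset hQ Φ := fun d hd => by
      obtain ⟨p, -, rfl⟩ := Finset.mem_image.1 hd
      exact (mem_wset hQ Φ).2 ((Φ.W hQ).add_mem ((Φ.W hQ).smul_mem _ huW) ((Φ.W hQ).smul_mem _ hvW))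
    set A := (wset hQ Φ).filter fun x => ∀ d ∈ D, pol Q x d = 0 with hA
    have hDadd : ∀ a ∈ D, ∀ b ∈ D, a + b ∈ D := by
      intro a ha b hb
      obtain ⟨p, -, rfl⟩ := Finset.mem_image.1 ha
      obtain ⟨p', -, rfl⟩ := Finset.mem_image.1 hb
      rw [add_add_add_comm, ← add_smul, ← add_smul]
      exact hmemD _ _
    have hD0 : (0 : ι → F) ∈ D := by
      have := hmemD 0 0
      rwa [zero_smul, zero_smul, add_zero] at this
    have hA1 := card_perp_mul hQ hW.add (D := D) hD0 hDadd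
      (fun d hd hd0 => hW.nd d (hDW d hd) hd0)
    have hA0 : (0 : ι → F) ∈ A := Finset.mem_filter.2 ⟨hW.zero, fun d _ => pzero_left hQ d⟩
    have hAadd : ∀ a ∈ A, ∀ b ∈ A, a + b ∈ A := fun a ha b hb => Finset.mem_filter.2
      ⟨hW.add a (Finset.mem_filter.1 ha).1 b (Finset.mem_filter.1 hb).1, fun d hd => by
        rw [padd_left hQ, (Finset.mem_filter.1 ha).2 d hd, (Finset.mem_filter.1 hb).2 d hd, add_zero]⟩
    have hA2 := card_perp_mul hQ hW.add (D := A) hA0 hAadd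
      (fun d hd hd0 => hW.nd d (Finset.mem_filter.1 hd).1 hd0)
    set B := (wset hQ Φ).filter fun x => ∀ d ∈ A, pol Q x d = 0 with hB
    have hDB : D ⊆ B := fun d hd => Finset.mem_filter.2 ⟨hDW d hd, fun x hx => by
      rw [pcomm]; exact (Finset.mem_filter.1 hx).2 d hd⟩
    have hcardB : B.card = D.card := by
      rw [← hA1, mul_comm A.card] at hA2
      exact Nat.eq_of_mul_eq_mul_right (Finset.card_pos.2 ⟨0, hA0⟩) hA2
    have hyB : y ∈ B := Finset.mem_filter.2 ⟨(mem_wset hQ Φ).2 hyW, fun x hx => by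
      obtain ⟨hxW, hxD⟩ := Finset.mem_filter.1 hx
      have hxu := hxD u (by simpa using hmemD 1 0)
      have hxv := hxD v (by simpa using hmemD 0 1)
      rw [mem_wset] at hxW
      rcases Two.out (Q x) with hQx | hQx
      · have h1 := horth (x + u) ((Φ.W hQ).add_mem hxW huW)
          (by rw [qadd hQ, hQx, hQu, hxu, add_zero, zero_add])
          (by rw [padd_left hQ, hxu, pself hQ, two_eq_zero, zero_mul, add_zero])
          (by rw [padd_left hQ, hxv, pcomm, hvu, add_zero])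
        rwa [padd_right hQ, hyuv.1, add_zero] at h1
      · exact horth x hxW hQx hxu hxv⟩
    rw [← Finset.eq_of_subset_of_card_le hDB hcardB.le] at hyB
    obtain ⟨p, -, hp'⟩ := Finset.mem_image.1 hyB
    exact ⟨p.1, p.2, hp'.symm⟩
  -- so h fixes a point of the orbit
  obtain ⟨z, hz, -, -, hzv, hzu⟩ := hW.exists_sing hQ hvW' huW' hv0 hu0 huv.symm α (α + β) ∅ (by simp)
  rw [mem_wset] at hz
  have hzy : act h z + y = z := by
    rw [hact, hzv, hzu, hyspan, show α + β + α = β by rw [add_comm α β, add_assoc, fadd_self, add_zero]]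
    have h2 := two_eq_zero (F := F)
    match_scalars <;> grind
  have hfix : h • el hQ Φ.e z • x₀ = el hQ Φ.e z • x₀ := by
    rw [smul_smul, hconj z hz, mul_smul, hy, smul_smul,
      ← el_add hQ Φ.hQe (Φ.pol_e hQ (hmapsW z hz)) (Φ.pol_e hQ hyW), hzy]
  have hT : Triv hQ (el hQ Φ.e z • x₀) v := by
    refine hall _ Φ.e v Φ.hQe (Φ.e_ne hQ) hQv hv0 ?_
    have := h₀.map_two (el hQ Φ.e z) Φ.hQe
    rwa [show act (el hQ Φ.e z) Φ.e = Φ.e by
      rw [act_el hQ Φ.hQe (Φ.pol_e hQ hz), pol_self_singular hQ Φ.hQe, Φ.pol_e hQ hz, mul_zero,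
        zero_smul, zero_smul, add_zero, sub_zero, sub_zero]] at this
  obtain ⟨k, hk⟩ := hT u ⟨by rw [hvu], hfix⟩
  rcases Two.out k with rfl | rfl
  · exact hu0 (by rw [hk, zero_smul])
  · exact huv (by rw [hk, one_smul])

include hmix in
/-- A small action is trivial. -/
theorem all_fix (x : X) (g : ↥(eGroup Q)) : g • x = x :=
  fix_of_all_full hQ
    (line_case hQ hV hK hn hlt hfam (fun x z hz hz' => not_triv hQ hV hK hn hlt hfam hmix x z hz hz') x) g

end

end CfsgLib.PGroup.OrthTwoIndex
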